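import Cfsg.Agent.Lib.Rigid.Co1Search

/-!
# The automorphisms of the first Conway group are inner
-/

set_option autoImplicit false
set_option maxRecDepth 20000

namespace CfsgLib.Rigid.Co1

open Cfsg CfsgLib.Golay CfsgLib.Leech CfsgLib.Rigid CfsgLib.Leech.ConwaySimple

theorem other_ok : ∀ t ∈ otherTab, vecTest (t.2) = true := by decide +kernel

/-- The short vector of a listed class. -/
noncomputable def otherVec (i : Fin otherTab.length) : leechLattice :=
  ⟨entFn otherTab[i.val].2.2.2, mem_of_vecTest (other_ok _ (List.getElem_mem i.isLt))⟩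

theorem other_code : ∀ i : Fin otherTab.length, basis.code1 (otherVec i) = otherTab[i.val].1 ∧
    sqNorm (otherVec i : GolayPt → ℤ) ≤ 64 ∧ sqNorm (otherVec i : GolayPt → ℤ) ≠ 32 := by
  decide +kernel

theorem code1_not_other {y : leechLattice} (hy : sqNorm (y : GolayPt → ℤ) = 32) :
    basis.code1 y ∉ otherTab.map fun t => t.1 := by
  intro h
  obtain ⟨t, ht, e⟩ := List.mem_map.1 h
  obtain ⟨i, hi, rfl⟩ := List.getElem_of_mem ht
  obtain ⟨h1, h2, h3⟩ := other_code ⟨i, hi⟩
  refine h3 ?_
  rw [CfsgLib.MonsterType.sqNorm_eq_of_congr (basis.congr_of_code1 (h1.trans e)) h2 (by omega), hy]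

theorem img_avgC (x : Co0 ⧸ Subgroup.center Co0) (hx : act.C x = cV) {p : ℕ} (hp : act.Pt p)
    (hf : img cV p = p) : ∀ n ≤ 11, img (avgC n) p = n % 2 * p := by
  have hspan := span_ok
  simp only [spanOk, Bool.and_eq_true, List.all_eq_true, List.mem_range, beq_iff_eq] at hspan
  intro n
  induction n with
  | zero =>
    intro _
    have : ∀ (k q : ℕ), img (List.replicate k 0) q = 0 := by
      intro k
      induction k with
      | zero => intro q; simp [img_nil]
      | succ k ih => intro q; simp [List.replicate_succ, img_cons, ih]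
    rw [avgC, this, show 0 % 2 = 0 from rfl, Nat.zero_mul]
  | succ n ih =>
    intro hn
    have hpow : ∀ m, img (powC one cV m) p = p := by
      intro m
      induction m with
      | zero =>
        show img one p = p
        rw [← one_eq]
        exact act.one_img p hp
      | succ m ihm =>
        show img (mulF (powC one cV m) cV) p = p
        rw [img_mulF, hf, ihm]
    rw [avgC, img_xorCols _ _ _ (hspan.1.1.1.2 n hn), ih (by omega), hpow n]
    rcases Nat.mod_two_eq_zero_or_one n with h | h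
    · rw [h, show (n + 1) % 2 = 1 by omega]; simp
    · rw [h, show (n + 1) % 2 = 0 by omega]; simp

theorem fixed_six (x : Co0 ⧸ Subgroup.center Co0) (hx : act.C x = cV) {y : leechLattice}
    (hy : sqNorm (y : GolayPt → ℤ) = 32) (hf : img cV (basis.code1 y) = basis.code1 y) :
    basis.code1 y ∈ sixTab := by
  have hspan := span_ok
  simp only [spanOk, Bool.and_eq_true, List.all_eq_true, eqL_iff, List.elem_eq_mem,
    decide_eq_true_eq, List.mem_range, beq_iff_eq] at hspan
  obtain ⟨⟨⟨⟨havg, -⟩, hcols⟩, h0⟩, hcl⟩ := hspan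
  have hmem : ∀ (A : List ℕ) (p : ℕ), (∀ a ∈ A, a ∈ spanTab) → img A p ∈ spanTab := by
    intro A
    induction A with
    | nil => intro p _; rw [img_nil]; exact h0
    | cons a A ih =>
      intro p hA
      rw [img_cons]
      refine hcl _ ?_ _ (ih _ fun b hb => hA b (List.mem_cons_of_mem _ hb))
      rcases Nat.mod_two_eq_zero_or_one p with h | h <;> rw [h]
      · rw [Nat.zero_mul]; exact h0
      · rw [Nat.one_mul]; exact hA a List.mem_cons_self
  have h := hmem avg (basis.code1 y) hcols
  rw [havg, img_avgC x hx ⟨y, rfl⟩ hf 11 le_rfl] at h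
  simp only [show 11 % 2 = 1 from rfl, one_mul, spanTab, List.mem_append] at h
  exact h.resolve_right (code1_not_other hy)

theorem exists_of_mem {K : Subgroup (Co0 ⧸ Subgroup.center Co0)} {M : List ℕ} (h : act.Mem K M) :
    ∃ g, act.C g = M := ⟨h.choose, h.choose_spec.2⟩

theorem ztab_mem : ∀ j < 6, known.elem (zTab.getD j []) = true ∨ eqL (zTab.getD j []) one = true := by
  decide +kernel

set_option maxHeartbeats 400000 in
theorem card_out : Nat.card (Cfsg.Out (Co0 ⧸ Subgroup.center Co0)) = 1 := by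
  have := finite_co1
  have : Fact (Nat.Prime 23) := ⟨by norm_num⟩
  obtain ⟨U, hU0⟩ := exists_gen autU_ok
  obtain ⟨V, hV0⟩ := exists_gen autV_ok
  obtain ⟨W, hW0⟩ := exists_gen autW_ok
  obtain ⟨ecu, ecv, ecw, -⟩ := code_ok
  simp only [eqL_iff] at ecu ecv ecw
  have hu : act.C U = cU := hU0.trans ecu
  have hv : act.C V = cV := hV0.trans ecv
  have hw : act.C W = cW := hW0.trans ecw
  have h1 := one_eq
  set K : Subgroup (Co0 ⧸ Subgroup.center Co0) := Subgroup.closure {x | x ∈ [U, V, W]} with hK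
  have hbase : ∀ M ∈ [cU, cV, cW], act.Mem K M := by
    intro M hM
    rcases List.mem_cons.1 hM with rfl | hM
    · exact ⟨U, Subgroup.subset_closure (List.mem_cons_self ..), hu⟩
    rcases List.mem_cons.1 hM with rfl | hM
    · exact ⟨V, Subgroup.subset_closure (List.mem_cons_of_mem _ (List.mem_cons_self ..)), hv⟩
    rw [List.mem_singleton] at hM
    subst hM
    exact ⟨W, Subgroup.subset_closure
      (List.mem_cons_of_mem _ (List.mem_cons_of_mem _ (List.mem_cons_self ..))), hw⟩
  have hknown : ∀ M ∈ known, act.Mem K M := act.slp_sound h1 ops _ hbase ops_ok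
  obtain ⟨hfull, htop⟩ := chain_facts hknown
  have hinj := injective_act
  have hrel := rel_ok
  simp only [relOk, Bool.and_eq_true, eqL_iff, Bool.not_eq_true', List.all_eq_true, Nat.beq_eq] at hrel
  obtain ⟨⟨⟨⟨⟨⟨hup, hune⟩, hvu⟩, hwv⟩, hvo⟩, hvb⟩, hwords⟩ := hrel
  have hUp : U ^ 23 = 1 := hinj (by rw [act.C_pow h1, hu, hup, h1])
  have hU1 : U ≠ 1 := fun h => by
    rw [h, h1] at hu
    rw [← hu, (eqL_iff _ _).2 rfl] at hune
    simp at hune
  have hord : orderOf U = 23 := orderOf_eq_prime hUp hU1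
  have hVU : V * U = U ^ 2 * V := hinj (by rw [act.mul, act.mul, act.C_pow h1, hu, hv, hvu])
  have hWV : W * V = V ^ 10 * W := hinj (by rw [act.mul, act.mul, act.C_pow h1, hw, hv, hwv])
  have hVo : V ^ 11 = 1 := hinj (by rw [act.C_pow h1, hv, hvo, h1])
  have hsq : ¬ 23 ^ 2 ∣ Nat.card (Co0 ⧸ Subgroup.center Co0) := by rw [card_co1]; norm_num
  have hCU : ∀ y, y * U = U * y → ∃ m : ℕ, y = U ^ m := by
    intro y hy
    obtain ⟨g, k, hk, hg⟩ := CfsgLib.MathieuOut.exists_conj_zpowers hsq orderOf_mk_s23 hord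
    have hcop : Nat.Coprime k (orderOf (mk1 s23)) := by
      rw [orderOf_mk_s23]
      exact ((Nat.Prime.coprime_iff_not_dvd Fact.out).2 hk).symm
    obtain ⟨j, hj⟩ := exists_pow_eq_self_of_coprime hcop
    have hc : (g * y * g⁻¹) * mk1 s23 = mk1 s23 * (g * y * g⁻¹) := by
      have h2 : Commute (g * y * g⁻¹) (g * U * g⁻¹) := by
        show g * y * g⁻¹ * (g * U * g⁻¹) = g * U * g⁻¹ * (g * y * g⁻¹)
        calc g * y * g⁻¹ * (g * U * g⁻¹) = g * (y * U) * g⁻¹ := by group
          _ = g * (U * y) * g⁻¹ := by rw [hy]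
          _ = _ := by group
      rw [hg] at h2
      have h3 := h2.pow_right j
      rw [hj] at h3
      exact h3.eq
    obtain ⟨i, hi⟩ := (isOfFinOrder_of_finite _).mem_powers_iff_mem_zpowers.2 (cent_co1 _ hc)
    refine ⟨j * i, ?_⟩
    have h4 : g * U ^ (j * i) * g⁻¹ = g * y * g⁻¹ := by
      rw [← conj_pow, hg, ← pow_mul, ← mul_assoc, pow_mul, pow_mul, hj]
      exact hi
    exact (mul_left_cancel (mul_right_cancel h4)).symm
  have hmod : ∀ n : ℕ, U ^ n = U ^ (n % 23) := fun n => by
    rw [← hord]; exact (pow_mod_orderOf U n).symm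
  have hrep : ∀ n : ℕ, V * U ^ n = U ^ (2 * n) * V := fun n => by
    induction n with
    | zero => simp
    | succ n ih =>
      rw [pow_succ, ← mul_assoc, ih, mul_assoc, hVU, ← mul_assoc, ← pow_add, Nat.mul_succ]
  have hN : ∀ x, x * U = U ^ 2 * x → ∃ i : ℕ, x = U ^ i * V ∧ ∃ a : ℕ, U ^ a * x * (U ^ a)⁻¹ = V := by
    intro x hx
    obtain ⟨m, hm'⟩ := hCU (V⁻¹ * x) (by
      apply mul_left_cancel (a := V)
      rw [← mul_assoc, ← mul_assoc, ← mul_assoc, mul_inv_cancel, one_mul, hVU, hx,
        mul_assoc _ V, ← mul_assoc V V⁻¹, mul_inv_cancel, one_mul])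
    have hxe : x = U ^ (2 * m) * V := by rw [← hrep, ← hm', mul_inv_cancel_left]
    refine ⟨2 * m, hxe, 2 * m % 23, ?_⟩
    rw [hxe, ← mul_assoc, ← pow_add, mul_inv_eq_iff_eq_mul, hrep, hmod, hmod (2 * _)]
    congr 2
    omega
  -- the centraliser of the element of order 11
  have hz := z_ok
  simp only [zOk, Bool.and_eq_true, decide_eq_true_eq, List.all_eq_true, List.mem_range,
    List.any_eq_true, eqL_iff, Nat.beq_eq] at hz
  obtain ⟨⟨⟨-, hsl⟩, hzj⟩, hzcl⟩ := hz
  have hzmem : ∀ j : Fin 6, ∃ z, act.C z = zTab.getD j.val [] := fun j => by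
    rcases ztab_mem j.val j.isLt with h | h
    · rw [List.elem_eq_mem, decide_eq_true_eq] at h
      exact exists_of_mem (hknown _ h)
    · exact ⟨1, h1.trans ((eqL_iff _ _).1 h).symm⟩
  choose z hzC using hzmem
  have hzV : ∀ j, z j * V = V * z j := fun j =>
    hinj (by rw [act.mul, act.mul, hzC, hv, (hzj j.val j.isLt).1])
  let wG : ℕ × ℕ → Co0 ⧸ Subgroup.center Co0 := fun ij =>
    V ^ ij.1 * (if h : ij.2 < 6 then z ⟨ij.2, h⟩ else 1) * W
  have hwC : ∀ ij ∈ wIdx, act.C (wG ij) = wCode ij := by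
    intro ij hij
    have h6 : ij.2 < 6 := by
      simp only [wIdx, List.mem_flatMap, List.mem_map, List.mem_range] at hij
      obtain ⟨a, -, b, hb, rfl⟩ := hij
      exact hb
    simp only [wG, dif_pos h6, act.mul, act.C_pow h1, hv, hw, hzC]
    rfl
  have hB : act.C (V ^ 10) = powC one cV 10 := by rw [act.C_pow h1, hv]
  have hWset : ∀ x, x * V = V ^ 10 * x → x ∈ wIdx.map wG := by
    intro x hx
    -- move the base point back
    have hy0 : ∃ y : leechLattice, sqNorm (y : GolayPt → ℤ) = 32 ∧ img (act.C x) base = basis.code1 y := by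
      obtain ⟨a, rfl⟩ := QuotientGroup.mk'_surjective _ x
      refine ⟨a • Spor.leechU, ?_, ?_⟩
      · rw [sqNorm_smul_co]; decide +kernel
      · rw [basis.code1_smul, base_eq]; rfl
    obtain ⟨y, hy32, hy⟩ := hy0
    have hfB : img (powC one cV 10) (img (act.C x) base) = img (act.C x) base := by
      rw [← hB, ← act.img_mul, ← hx, act.img_mul, hv, hvb]
    have hf : img cV (basis.code1 y) = basis.code1 y := by
      rw [← hy]
      have e : V = (V ^ 10) ^ 10 := by
        rw [← pow_mul, show 10 * 10 = 11 * 9 + 1 from rfl, pow_succ, pow_mul, hVo, one_pow, one_mul]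
      rw [← hv]
      conv_lhs => rw [e]
      have : ∀ n : ℕ, img (act.C ((V ^ 10) ^ n)) (img (act.C x) base) = img (act.C x) base := by
        intro n
        induction n with
        | zero => rw [pow_zero, act.one_img _ (act.img_pt x _ pt_base)]
        | succ n ih => rw [pow_succ, act.img_mul, hB, hfB, ih]
      exact this 10
    obtain ⟨j, hj, ej⟩ := List.getElem_of_mem (fixed_six V hv hy32 hf)
    have hj6 : j < 6 := hsl ▸ hj
    set j' : Fin 6 := ⟨j, hj6⟩
    have hzb : img (act.C (z j')) base = img (act.C x) base := by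
      rw [hzC, (hzj j hj6).2, hy, ← ej, List.getD_eq_getElem _ _ hj]
    have hst : (z j')⁻¹ * x ∈ act.stab [base] := fun b hb _ => by
      rw [List.mem_singleton] at hb
      subst hb
      rw [act.img_mul, ← hzb, act.img_inv_img _ pt_base]
    have hcomm : Commute (z j') (V ^ 10) := (show Commute (z j') V from hzV j').pow_right 10
    have hsem : (z j')⁻¹ * x * V = V ^ 10 * ((z j')⁻¹ * x) := by
      rw [mul_assoc, hx, ← mul_assoc, (hcomm.inv_left).eq, mul_assoc]
    have hcons : act.ConsOK V (V ^ 10) slevs := by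
      intro L hL k hk
      obtain ⟨i, hi, rfl⟩ := List.getElem_of_mem hL
      simp only [slevs, List.getElem_zipWith] at hk
      have hc := cons_ok
      simp only [consOk, List.all_eq_true] at hc
      have hi' : i < eqs.length := by simp [slevs] at hi; omega
      have := hc _ (List.getElem_mem hi')
      rw [hk] at this
      simp only [Bool.and_eq_true, eqL_iff] at this
      rw [act.C_pow h1, act.C_pow h1, hB, hv]
      exact this
    have hs := search_ok
    rw [searchOk, ← hB, ← hv] at hs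
    obtain ⟨i, hi⟩ := act.srch_sound (a := V) (b := V ^ 10) slevs [base] one
      (fun b hb => by rw [List.mem_singleton] at hb; subst hb; exact pt_base)
      (full_slevs act ⟨one, cU, cV, cW, [], [], 0, 0, 0, 0, 0, [], [], [], [], []⟩ levels eqs [base] rfl hfull)
      (allOpts_slevs act h1 hknown levels eqs [base] levels_ok) hcons hs _ hst 1 h1
      (by rw [one_mul]; exact hsem)
    rw [one_mul] at hi
    obtain ⟨⟨a, l⟩, hmem, hl⟩ := List.mem_map.1 hi
    rw [← hwC _ hmem] at hl
    have e := hinj hl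
    have h6 : l < 6 := by
      simp only [wIdx, List.mem_flatMap, List.mem_map, List.mem_range, Prod.mk.injEq] at hmem
      obtain ⟨_, -, b, hb, -, rfl⟩ := hmem
      exact hb
    obtain ⟨m, hm, k, hk, hzz⟩ := hzcl j hj6 l h6
    have ezz : z j' * z ⟨l, h6⟩ = V ^ m * z ⟨k, hk⟩ :=
      hinj (by rw [act.mul, act.mul, act.C_pow h1, hzC, hzC, hzC, hv, hzz])
    obtain ⟨t, ht⟩ := (isOfFinOrder_of_finite V).mem_powers_iff_mem_zpowers.2
      (Subgroup.inv_mem _ (Subgroup.pow_mem _ (Subgroup.npow_mem_zpowers V 10) i))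
    simp only at ht
    have hwl : wG (a, l) = V ^ a * z ⟨l, h6⟩ * W := by simp only [wG, dif_pos h6]
    rw [hwl] at e
    have hx' : x = V ^ ((t + a + m) % 11) * z ⟨k, hk⟩ * W := by
      rw [← pow_eq_pow_mod _ hVo]
      calc x = z j' * (((V ^ 10) ^ i)⁻¹ * ((V ^ 10) ^ i * ((z j')⁻¹ * x))) := by group
        _ = z j' * (V ^ t * (V ^ a * z ⟨l, h6⟩ * W)) := by rw [← e, ht]
        _ = V ^ (t + a) * (z j' * z ⟨l, h6⟩) * W := by
            rw [← mul_assoc (V ^ t), ← mul_assoc (V ^ t), ← pow_add, ← mul_assoc, ← mul_assoc,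
              ((show Commute (z j') V from hzV j').pow_right (t + a)).eq, mul_assoc (V ^ (t + a))]
        _ = V ^ (t + a + m) * z ⟨k, hk⟩ * W := by
            rw [ezz, ← mul_assoc (V ^ (t + a)), ← pow_add]
    refine List.mem_map.2 ⟨((t + a + m) % 11, k), ?_, ?_⟩
    · simp only [wIdx, List.mem_flatMap, List.mem_map, List.mem_range, Prod.mk.injEq]
      exact ⟨_, Nat.mod_lt _ (by norm_num), k, hk, rfl, rfl⟩
    · rw [hx']
      simp only [wG, dif_pos hk]
  refine le_antisymm ((CfsgLib.MathieuOut.card_out_le (p := 23) (u := U) (v := V) (ws := [W]) (r := 2)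
    (s := 10) hord hsq (by rw [← hK]; exact htop) hVU ?_ hN [1, 5] ?_ (wIdx.map wG) hWset
    (validTab.map fun t => (t.1, [wG t.2])) ?_).trans_eq (by rw [List.length_map]; rfl))
    CfsgLib.MathieuOut.one_le_card_out
  · intro w hw'
    rw [List.mem_singleton] at hw'
    subst hw'
    exact hWV
  · intro k hk
    have hk0 : k % 23 ≠ 0 := fun h => hk (Nat.dvd_of_mod_eq_zero h)
    have hKc : ∀ r < 23, r = 0 ∨ ∃ l < 11, ∃ k' ∈ [1, 5], r * 2 ^ l % 23 = k' % 23 := by decide +kernel
    rcases hKc (k % 23) (Nat.mod_lt _ (by norm_num)) with h | ⟨l, -, k', hk', e⟩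
    · exact absurd h hk0
    refine ⟨l, k', hk', ?_⟩
    have hl : ∀ (l n : ℕ), V ^ l * U ^ n = U ^ (n * 2 ^ l) * V ^ l := by
      intro l
      induction l with
      | zero => simp
      | succ l ihl =>
        intro n
        rw [pow_succ, mul_assoc, hrep, ← mul_assoc, ihl, mul_assoc, pow_succ, mul_comm 2 n,
          mul_assoc n 2, mul_comm 2 (2 ^ l)]
    rw [hl, mul_inv_cancel_right, hmod, hmod k', ← e, Nat.mod_mul_mod]
  · intro k hk xs hlen hxs
    match xs, hlen with
    | [x], _ =>
      obtain ⟨ij, hij, rfl⟩ := List.mem_map.1 (hxs x List.mem_cons_self)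
      have hsep := sep_ok
      simp only [sepOk, List.all_eq_true, Bool.or_eq_true, List.elem_eq_mem, decide_eq_true_eq] at hsep
      rcases hsep k hk ij hij with h | h
      · exact Or.inl (List.mem_map.2 ⟨_, h, rfl⟩)
      refine Or.inr fun α hαu hαv hαw => ?_
      simp only [separated, List.any_eq_true, Bool.not_eq_true'] at h
      obtain ⟨l, hl, hne⟩ := h
      have h0 : evalG U V W l = 1 := hinj (by rw [act.C_evalG h1, hu, hv, hw, h1]; exact hwords l hl)
      have h3 := map_evalG α.toMonoidHom U V W l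
      rw [h0, map_one] at h3
      simp only [MulEquiv.coe_toMonoidHom] at h3
      have hαW : α W = wG ij := by simpa using hαw
      rw [hαu, hαv, hαW] at h3
      have h4 := congrArg act.C h3
      rw [h1, act.C_evalG h1, act.C_pow h1, hu, hv, hwC _ hij] at h4
      rw [← h4, (eqL_iff _ _).2 rfl] at hne
      simp at hne

end CfsgLib.Rigid.Co1
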