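import Cfsg.Agent.Lib.Rigid.Lattice

/-!
# Bases from tables
-/

set_option autoImplicit false

namespace CfsgLib.Rigid

open Cfsg CfsgLib.Golay CfsgLib.Leech

/-- The entries of a table. -/
def entries (T : List (ℕ × ℕ × List ℤ)) : List (List ℤ) := T.map fun t => t.2.2

/-- A multiple of the identity matrix. -/
def scalMat (a : ℤ) : List (List ℤ) :=
  List.ofFn fun i : Fin 24 => List.ofFn fun j : Fin 24 => if i = j then a else 0

theorem ent_scalMat (a : ℤ) (i j : Fin 24) : Basis.ent (scalMat a) i j = if i = j then a else 0 := by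
  have hi : i.val < (scalMat a).length := by simp [scalMat]
  conv_lhs => rw [Basis.ent, List.getD_eq_getElem _ _ hi]
  simp only [scalMat, List.getElem_ofFn]
  rw [List.getD_eq_getElem _ _ (by simp), List.getElem_ofFn]

/-- The checks on the tables of a basis and its dual. -/
noncomputable def tableTest (TE TD : List (ℕ × ℕ × List ℤ)) (G : List (List ℤ)) : Bool :=
  TE.all vecTest && TD.all vecTest && decide (TE.length = 24) && decide (TD.length = 24) &&
    Basis.mulTest (entries TD) (entries TE) (scalMat 8) &&
    Basis.mulTest (entries TE) (entries TE) (G.map fun r => r.map fun x => 8 * x) &&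
    Basis.mulTest (Basis.transp (entries TE)) (Basis.transp (entries TD)) (scalMat 8)

variable {TE TD : List (ℕ × ℕ × List ℤ)} {G : List (List ℤ)}

theorem tableTest_parts (h : tableTest TE TD G = true) :
    TE.all vecTest = true ∧ TD.all vecTest = true ∧ TE.length = 24 ∧ TD.length = 24 ∧
    Basis.mulTest (entries TD) (entries TE) (scalMat 8) = true ∧
    Basis.mulTest (entries TE) (entries TE) (G.map fun r => r.map fun x => 8 * x) = true ∧
    Basis.mulTest (Basis.transp (entries TE)) (Basis.transp (entries TD)) (scalMat 8) = true := by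
  simp only [tableTest, Bool.and_eq_true, decide_eq_true_eq] at h
  obtain ⟨⟨⟨⟨⟨⟨a, b⟩, c⟩, d⟩, e⟩, f⟩, g⟩ := h
  exact ⟨a, b, c, d, e, f, g⟩

theorem coe_latRow (T : List (ℕ × ℕ × List ℤ)) (h : T.all vecTest = true) (hl : T.length = 24) (i : Fin 24) :
    ((latRow T h hl i : leechLattice) : GolayPt → ℤ) = entFn ((entries T).getD i.val []) := by
  show entFn _ = _
  rw [List.getD_eq_getElem _ _ (by simp [entries, hl])]
  simp [entries]

theorem entries_row_length {T : List (ℕ × ℕ × List ℤ)} (h : T.all vecTest = true) (hl : T.length = 24)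
    (i : Fin 24) : ((entries T).getD i.val []).length = 24 := by
  rw [List.getD_eq_getElem _ _ (by simp [entries, hl])]
  have := List.all_eq_true.1 h _ (List.getElem_mem (l := T) (n := i.val) (by omega))
  simp only [vecTest, Bool.and_eq_true, decide_eq_true_eq] at this
  simpa [entries] using this.1.2

/-- The basis of a pair of tables. -/
def mkBasis (TE TD : List (ℕ × ℕ × List ℤ)) (G : List (List ℤ)) (h : tableTest TE TD G = true) : Basis where
  e := latRow TE (tableTest_parts h).1 (tableTest_parts h).2.2.1
  d := latRow TD (tableTest_parts h).2.1 (tableTest_parts h).2.2.2.1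
  ortho i j := by
    obtain ⟨hE, hD, lE, lD, hDE, -, -⟩ := tableTest_parts h
    refine innerL_entFn (coe_latRow TD hD lD i) (coe_latRow TE hE lE j) (entries_row_length hD lD i)
      (entries_row_length hE lE j) ?_
    rw [dotList_getD (entries_row_length hD lD i) (entries_row_length hE lE j)]
    have := Basis.mulTest_spec hDE i j
    rw [ent_scalMat] at this
    refine Eq.trans this.symm ?_
    split <;> rfl
  sep p := by
    obtain ⟨-, hD, -, lD, -, -, hED⟩ := tableTest_parts h
    refine ⟨fun i => Basis.ent (entries TE) i (ptEquiv p), fun q => ?_⟩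
    have := Basis.mulTest_spec hED (ptEquiv p) (ptEquiv q)
    rw [ent_scalMat] at this
    simp only [Basis.ent_transp] at this
    rw [Pi.single_apply]
    refine Eq.trans ?_ (this.trans ?_)
    · simp only [ptEquiv.injective.eq_iff, eq_comm]
    · exact Finset.sum_congr rfl fun i _ => by rw [coe_latRow]; rfl

theorem mkBasis_gram (h : tableTest TE TD G = true) (i j : Fin 24) :
    innerL ((mkBasis TE TD G h).e i) ((mkBasis TE TD G h).e j) = Basis.ent G i j := by
  obtain ⟨hE, -, lE, -, -, hEE, -⟩ := tableTest_parts h
  refine innerL_entFn (coe_latRow TE hE lE i) (coe_latRow TE hE lE j) (entries_row_length hE lE i)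
    (entries_row_length hE lE j) ?_
  rw [dotList_getD (entries_row_length hE lE i) (entries_row_length hE lE j)]
  have := Basis.mulTest_spec hEE i j
  refine Eq.trans this.symm ?_
  simp only [Basis.ent, List.getD_eq_getElem?_getD, List.getElem?_map]
  cases G[i.val]? with
  | none => simp
  | some r =>
    simp only [Option.map_some, Option.getD_some, List.getElem?_map]
    cases r[j.val]? <;> simp

/-- An element of a stabiliser from its matrix. -/
theorem exists_mem_of_mat (B : Basis) {G N N' NG : List (List ℤ)}
    (hG : ∀ i j, innerL (B.e i) (B.e j) = Basis.ent G i j) (h : Basis.autTest G N N' NG = true) :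
    ∃ g : Co0, (∀ x, g • x = B.linMap N x) ∧ B.cols g = Basis.matCode N := by
  obtain ⟨g, hg⟩ := B.exists_aut hG h
  have h' := h
  simp only [Basis.autTest, Basis.mulTest, Bool.and_eq_true, beq_iff_eq] at h'
  refine ⟨g, hg, B.cols_of_mat hg ?_ ?_⟩
  · exact h'.1.1.1.1.1.1.1.1
  · exact h'.1.1.1.1.1.2

end CfsgLib.Rigid
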