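import Cfsg.Agent.Lib.Rigid.Co1Defs
import Cfsg.Agent.Lib.Rigid.Make

/-!
# The checks of the certificate for the first Conway group
-/

set_option autoImplicit false
set_option maxRecDepth 30000

namespace CfsgLib.Rigid.Co1

open CfsgLib.Rigid

theorem table_ok : tableTest tabE tabD gram = true := by decide +kernel

theorem autU_ok : Basis.autTest gram matU matUinv matUG = true := by decide +kernel

theorem autV_ok : Basis.autTest gram matV matVinv matVG = true := by decide +kernel

theorem autW_ok : Basis.autTest gram matW matWinv matWG = true := by decide +kernel

theorem code_ok : eqL (matU.map pack) cU = true ∧ eqL (matV.map pack) cV = true ∧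
    eqL (matW.map pack) cW = true ∧ eqL ((List.range 24).map fun j => 2 ^ j) one = true := by
  decide +kernel

theorem ops_ok : slpOk one ops [cU, cV, cW] = true := by decide +kernel

theorem rel_ok : relOk = true := by decide +kernel

theorem z_ok : zOk = true := by decide +kernel

theorem span_ok : spanOk = true := by decide +kernel

theorem sep_ok : sepOk = true := by decide +kernel

theorem cons_ok : consOk = true := by decide +kernel

theorem search_ok : searchOk = true := by decide +kernel

theorem level1_ok : lev1.ok one known [base] = true := by decide +kernel

theorem level2_ok : lev2.ok one known [lev1.b, base] = true := by decide +kernel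

theorem level3_ok : lev3.ok one known [lev2.b, lev1.b, base] = true := by decide +kernel

theorem level4_ok : lev4.ok one known [lev3.b, lev2.b, lev1.b, base] = true := by decide +kernel

theorem level5_ok : lev5.ok one known [lev4.b, lev3.b, lev2.b, lev1.b, base] = true := by decide +kernel

theorem level6_ok : lev6.ok one known [lev5.b, lev4.b, lev3.b, lev2.b, lev1.b, base] = true := by
  decide +kernel

theorem cG_ok : known.elem cG = true ∧ Nat.beq (img cG base) lev1.b = true ∧
    Cod.prodLen (levels.map fun L => (L.b, L.pts)) = 42305421312000 ∧ lev1.pts.length = 4600 := by
  decide +kernel

end CfsgLib.Rigid.Co1
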