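import Cfsg.Agent.Lib.Rigid.Full24
import Cfsg.Agent.Lib.Rigid.Co1Check

/-!
# The structure of the first Conway group read off from the certificate
-/

set_option autoImplicit false
set_option maxRecDepth 20000

namespace CfsgLib.Rigid.Co1

open Cfsg CfsgLib.Golay CfsgLib.Leech CfsgLib.Rigid CfsgLib.Leech.ConwaySimple

/-- The basis. -/
noncomputable def basis : Basis := mkBasis tabE tabD gram table_ok

/-- The codes. -/
noncomputable def act : Cod (Co0 ⧸ Subgroup.center Co0) := basis.cod1

theorem base_eq : basis.code1 Spor.leechU = base := by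
  decide +kernel

theorem pt_base : act.Pt base := ⟨_, base_eq⟩

theorem pt_of_lt {p : ℕ} (cs : List ℤ) (h : cs.length = 24) (hp : img Basis.oneCode1 (pack cs) = p) :
    act.Pt p := by
  refine ⟨(List.zipWith (fun c e => c • e) cs (List.ofFn fun j : Fin 24 => basis.e j)).sum, ?_⟩
  rw [img_pack basis.code1 basis.code1_add _ _ (by simp [h]), ← hp, ← basis.cols1_one]
  congr 1

/-- The bits of a number as coefficients. -/
def bitsZ (p : ℕ) : List ℤ := (List.range 24).map fun i => ((p / 2 ^ i % 2 : ℕ) : ℤ)

theorem bases_ok : ∀ L ∈ levels, img Basis.oneCode1 (pack (bitsZ L.b)) = L.b := by decide +kernel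

theorem levels_ok : act.Levels one known [base] levels := by
  have h : ∀ L ∈ levels, act.Pt L.b := fun L hL => pt_of_lt (bitsZ L.b) (by simp [bitsZ]) (bases_ok L hL)
  exact ⟨h lev1 (by simp [levels]), level1_ok, h lev2 (by simp [levels]), level2_ok,
    h lev3 (by simp [levels]), level3_ok, h lev4 (by simp [levels]), level4_ok,
    h lev5 (by simp [levels]), level5_ok, h lev6 (by simp [levels]), level6_ok, trivial⟩

theorem exists_gen {N N' NG : List (List ℤ)} (h : Basis.autTest gram N N' NG = true) :
    ∃ g : Co0 ⧸ Subgroup.center Co0, act.C g = N.map pack := by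
  obtain ⟨g, hg, -⟩ := exists_mem_of_mat basis (mkBasis_gram table_ok) h
  have h' := h
  simp only [Basis.autTest, Basis.mulTest, Bool.and_eq_true, beq_iff_eq] at h'
  exact ⟨mk1 g, (basis.cod1_C g).trans (basis.cols1_of_mat hg h'.1.1.1.1.1.1.1.1 h'.1.1.1.1.1.2)⟩

theorem one_eq : act.C 1 = one := by
  obtain ⟨-, -, -, h⟩ := code_ok
  rw [eqL_iff] at h
  show basis.cols1 1 = one
  rw [basis.cols1_one, ← h]
  rfl

theorem injective_act : Function.Injective act.C := basis.cod1_injective

theorem card_stab_base : Nat.card (act.stab [base]) ≤ 42305421312000 := by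
  have h := basis.card_stab_le (x := Spor.leechU) (by decide +kernel)
  have h32 : sqNorm (Spor.leechU : GolayPt → ℤ) = 32 := by decide +kernel
  have hc := card_stab_of_trans (x := Spor.leechU) h32 (fun y hy => exists_smul_eq32 h32 hy) ncard_norm32
  rw [base_eq] at h
  exact h.trans (by omega)

theorem index_le_imp {G : Type*} [Group G] [Finite G] [IsSimpleGroup G] {K : Subgroup G} {q : ℕ}
    (hq : q.Prime) (hd : q ∣ Nat.card G) (hK : K.index < q) : K = ⊤ := by
  rcases (inferInstance : K.normalCore.Normal).eq_bot_or_eq_top with h | h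
  · exfalso
    rw [Subgroup.normalCore_eq_ker] at h
    have hinj := (MonoidHom.ker_eq_bot_iff _).1 h
    have h1 := Subgroup.card_dvd_of_injective _ hinj
    rw [Nat.card_perm, ← Subgroup.index] at h1
    have h2 := (Nat.Prime.dvd_factorial hq).1 (hd.trans h1)
    omega
  · exact top_le_iff.1 (h ▸ K.normalCore_le)

theorem chain_facts {K : Subgroup (Co0 ⧸ Subgroup.center Co0)} (hk : ∀ M ∈ known, act.Mem K M) :
    act.Full [base] (levels.map fun L => (L.b, L.pts)) ∧ K = ⊤ := by
  have := finite_co1
  have hch := act.chain_of_levels one_eq hk levels [base] levels_ok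
  obtain ⟨hcG, hG, hprod, hlen⟩ := cG_ok
  obtain ⟨hle, hfull⟩ := act.prodLen_le _ _ hch
  obtain ⟨hF, hsK⟩ := hfull (by rw [hprod]; exact card_stab_base)
  refine ⟨hF, ?_⟩
  rw [List.elem_eq_mem, decide_eq_true_eq] at hcG
  rw [Nat.beq_eq] at hG
  obtain ⟨g, hgK, eg⟩ := hk cG hcG
  let H := act.stab [base]
  let f : Fin lev1.pts.length → K ⧸ H.subgroupOf K := fun i =>
    QuotientGroup.mk ⟨(Classical.choose (hch.2.1 _ (List.getElem_mem i.isLt))) * g,
      K.mul_mem (Classical.choose_spec (hch.2.1 _ (List.getElem_mem i.isLt))).1 hgK⟩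
  have himg : ∀ i : Fin lev1.pts.length,
      img (act.C ((Classical.choose (hch.2.1 _ (List.getElem_mem i.isLt))) * g)) base = lev1.pts[i.val] := by
    intro i
    rw [act.img_mul, eg, hG]
    exact (Classical.choose_spec (hch.2.1 _ (List.getElem_mem i.isLt))).2.2
  have hf : Function.Injective f := by
    intro i j e
    have e1 := QuotientGroup.eq.1 e
    rw [Subgroup.mem_subgroupOf] at e1
    have e2 := e1 base List.mem_cons_self pt_base
    simp only [Subgroup.coe_mul, InvMemClass.coe_inv] at e2
    rw [act.img_mul, himg] at e2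
    have e3 := congrArg (img (act.C ((Classical.choose (hch.2.1 _ (List.getElem_mem i.isLt))) * g))) e2
    rw [himg, ← act.img_mul, mul_inv_cancel,
      act.one_img _ (himg j ▸ act.img_pt _ _ pt_base)] at e3
    exact Fin.ext ((hch.2.2.1.getElem_inj_iff).1 e3.symm)
  have h1 := Nat.card_le_card_of_injective f hf
  rw [Nat.card_fin, hlen] at h1
  have h2 : Nat.card (K ⧸ H.subgroupOf K) * Nat.card (H.subgroupOf K) = Nat.card K :=
    (Subgroup.card_eq_card_quotient_mul_card_subgroup _).symm
  rw [Nat.card_congr (Subgroup.subgroupOfEquivOfLe hsK).toEquiv] at h2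
  have h3 : 4600 * 42305421312000 ≤ Nat.card K := by
    rw [← h2]
    exact Nat.mul_le_mul h1 (hprod ▸ hle)
  have h4 := K.card_mul_index
  rw [card_co1] at h4
  have := isCo1.1
  refine index_le_imp (q := 23) (by norm_num) (by rw [card_co1]; norm_num) ?_
  by_contra hlt
  have := Nat.mul_le_mul h3 (Nat.le_of_not_lt hlt)
  omega

end CfsgLib.Rigid.Co1
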