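import Cfsg.Agent.Lib.Rigid.Make
import Cfsg.Agent.Lib.Leech.Orbits
import Cfsg.Prelude.Def_Spor_Conway

/-!
# Stabilisers of lattice vectors
-/

set_option autoImplicit false

namespace CfsgLib.Rigid

open Cfsg CfsgLib.Golay CfsgLib.Leech

theorem finite_co0 : Finite Co0 := Nat.finite_of_card_ne_zero (by rw [card_co0]; norm_num)

/-- A stabiliser inside the isometries, seen inside the permutations. -/
def stabEquiv (x : leechLattice) :
    ↥(Co0 ⊓ MulAction.stabilizer (Equiv.Perm leechLattice) x) ≃* ↥(MulAction.stabilizer Co0 x) where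
  toFun g := ⟨⟨g.1, g.2.1⟩, g.2.2⟩
  invFun g := ⟨g.1.1, g.1.2, g.2⟩
  left_inv _ := rfl
  right_inv _ := rfl
  map_mul' _ _ := rfl

/-- The index of a stabiliser is the number of vectors of its squared length. -/
theorem card_stab_of_trans {x : leechLattice} {n : ℤ} {m : ℕ} (hx : sqNorm (x : GolayPt → ℤ) = n)
    (htr : ∀ y : leechLattice, sqNorm (y : GolayPt → ℤ) = n → ∃ g : Co0, g • x = y)
    (hcount : {y : GolayPt → ℤ | y ∈ leechLattice ∧ sqNorm y = n}.ncard = m) :
    m * Nat.card (MulAction.stabilizer Co0 x) = 8315553613086720000 := by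
  have horb : MulAction.orbit Co0 x = {y : leechLattice | sqNorm (y : GolayPt → ℤ) = n} := by
    ext y
    exact ⟨fun ⟨g, hg⟩ => hg ▸ (sqNorm_smul_co g x).trans hx, fun hy => htr y hy⟩
  have hn : {y : leechLattice | sqNorm (y : GolayPt → ℤ) = n}.ncard = m := by
    rw [← hcount, ← Set.ncard_image_of_injective _ (Subtype.val_injective (p := (· ∈ leechLattice)))]
    congr 1
    ext y
    constructor
    · rintro ⟨v, hv, rfl⟩
      exact ⟨v.2, hv⟩
    · rintro ⟨hy, he⟩
      exact ⟨⟨y, hy⟩, he, rfl⟩
  have h := (MulAction.stabilizer Co0 x).index_mul_card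
  rw [MulAction.index_stabilizer, horb, hn, card_co0] at h
  exact h

/-- A matrix whose first row is trivial fixes the first basis vector. -/
theorem smul_e0 (B : Basis) {N : List (List ℤ)} {g : Co0} (hg : ∀ x, g • x = B.linMap N x)
    (h : ∀ k : Fin 24, Basis.ent N 0 k = if 0 = k then 1 else 0) : g • B.e 0 = B.e 0 := by
  rw [hg, B.linMap_e, Basis.rowVec, Finset.sum_eq_single 0 (fun k _ hk => by
    rw [h, if_neg (Ne.symm hk), zero_smul]) (by simp), h, if_pos rfl, one_smul]

/-- The coefficient test for the base points. -/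
noncomputable def baseTest (cs : List (List ℤ)) (Ls : List Level) : Bool :=
  match cs, Ls with
  | _, [] => true
  | [], _ :: _ => false
  | a :: cs, L :: Ls => decide (a.length = 23) && Nat.beq (img Basis.oneCode (pack a)) L.b && baseTest cs Ls

theorem levels_of_checks (B : Basis) (S : Subgroup Co0) (hS : ∀ g ∈ S, g • B.e 0 = B.e 0)
    (one : List ℕ) (known : List (List ℕ)) : ∀ (Ls : List Level) (cs : List (List ℤ)) (l : List ℕ),
    baseTest cs Ls = true →
    (∀ i (h : i < Ls.length), (Ls[i]).ok one known ((((Ls.take i).map Level.b).reverse) ++ l) = true) →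
    (B.cod S hS).Levels one known l Ls := by
  intro Ls
  induction Ls with
  | nil => intros; trivial
  | cons L Ls ih =>
    intro cs l hb hok
    match cs, hb with
    | a :: cs, hb =>
      simp only [baseTest, Bool.and_eq_true, decide_eq_true_eq, Nat.beq_eq] at hb
      refine ⟨B.exists_code a hb.1.1 hb.1.2, hok 0 (Nat.succ_pos _), ih cs _ hb.2 fun i hi => ?_⟩
      have h := hok (i + 1) (Nat.succ_lt_succ hi)
      simp only [List.take_succ_cons, List.map_cons, List.reverse_cons, List.append_assoc,
        List.singleton_append] at h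
      exact h

/-- Isomorphic groups have equally many outer classes. -/
theorem card_out_mulEquiv {G H : Type*} [Group G] [Group H] (e : G ≃* H) :
    Nat.card (Cfsg.Out G) = Nat.card (Cfsg.Out H) := by
  refine Nat.card_congr (QuotientGroup.congr (Cfsg.Inn G) (Cfsg.Inn H) (MulAut.congr e) ?_).toEquiv
  ext ψ
  constructor
  · rintro ⟨_, ⟨x, rfl⟩, rfl⟩
    exact ⟨e x, MulEquiv.ext fun y => by simp [MulAut.congr, MulAut.conj_apply]⟩
  · rintro ⟨x, rfl⟩
    exact ⟨_, ⟨e.symm x, rfl⟩, MulEquiv.ext fun y => by simp [MulAut.congr, MulAut.conj_apply]⟩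

end CfsgLib.Rigid
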