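import Cfsg.Agent.Lib.Rigid.Spor
import Cfsg.Agent.Lib.Rigid.Co3Check

/-!
# The automorphisms of the third Conway group are inner
-/

set_option autoImplicit false
set_option maxRecDepth 20000

namespace CfsgLib.Rigid.Co3

open Cfsg CfsgLib.Leech CfsgLib.Rigid

/-- The basis. -/
noncomputable def basis : Basis := mkBasis tabE tabD gram table_ok

theorem e0_eq : basis.e 0 = Spor.leechV := by
  refine Subtype.ext (funext fun p => ?_)
  revert p
  show ∀ p, entFn (tabE[0]'(by decide)).2.2 p = Spor.vecV p
  decide +kernel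

/-- The stabiliser. -/
noncomputable def grp : Subgroup Co0 := MulAction.stabilizer Co0 Spor.leechV

theorem grp_fix : ∀ g ∈ grp, g • basis.e 0 = basis.e 0 := fun g hg => by rw [e0_eq]; exact hg

theorem ent_row : ∀ k : Fin 24, Basis.ent matU 0 k = (if 0 = k then 1 else 0) ∧
    Basis.ent matV 0 k = (if 0 = k then 1 else 0) ∧ Basis.ent matW 0 k = (if 0 = k then 1 else 0) := by
  decide +kernel

theorem card_grp : Nat.card grp = 495766656000 := by
  have h := card_stab_of_trans (x := Spor.leechV) (n := 48) (by decide +kernel)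
    (fun y hy => exists_smul_eq48 (by decide +kernel) hy) ncard_norm48
  rw [show grp = MulAction.stabilizer Co0 Spor.leechV from rfl]
  omega

theorem prod_ok : Cod.prodLen (data.levels.map fun L => (L.b, L.pts)) = 495766656000 := by decide +kernel

theorem base_ok : baseTest baseCoef data.levels = true := by decide +kernel

theorem exists_gen {N N' NG : List (List ℤ)} (h : Basis.autTest gram N N' NG = true)
    (h0 : ∀ k : Fin 24, Basis.ent N 0 k = if 0 = k then 1 else 0) :
    ∃ g : grp, basis.cols g.1 = Basis.matCode N := by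
  obtain ⟨g, hg, hc⟩ := exists_mem_of_mat basis (mkBasis_gram table_ok) h
  exact ⟨⟨g, by
    show g • Spor.leechV = Spor.leechV
    rw [← e0_eq]
    exact smul_e0 basis hg h0⟩, hc⟩

theorem card_out_grp : Nat.card (Cfsg.Out grp) = 1 := by
  have := finite_co0
  have : Fact data.p.Prime := ⟨show Nat.Prime 23 by norm_num⟩
  obtain ⟨U, hU⟩ := exists_gen autU_ok fun k => (ent_row k).1
  obtain ⟨V, hV⟩ := exists_gen autV_ok fun k => (ent_row k).2.1
  obtain ⟨W, hW⟩ := exists_gen autW_ok fun k => (ent_row k).2.2
  obtain ⟨cu, cv, cw, c1⟩ := code_ok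
  simp only [eqL_iff] at cu cv cw c1
  let c := basis.cod grp grp_fix
  have h1 : c.C 1 = data.one := by
    show basis.cols ((1 : grp) : Co0) = _
    rw [show ((1 : grp) : Co0) = 1 from rfl, basis.cols_one, c1]
  have hlev : c.Levels data.one data.known [] data.levels := by
    refine levels_of_checks basis grp grp_fix _ _ _ baseCoef [] base_ok ?_
    intro i hi
    have hi' : i < 6 := hi
    interval_cases i
    exacts [level0_ok, level1_ok, level2_ok, level3_ok, level4_ok, level5_ok]
  refine le_antisymm ((out_le c data h1 (hU.trans cu) (hV.trans cv) (hW.trans cw) ops_ok hlev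
    (by rw [prod_ok, card_grp]) (by rw [card_grp]; show ¬ 23 ^ 2 ∣ 495766656000; norm_num) small_ok sep_ok
    rfl rfl cu_ok cv_ok searchU_ok searchV_ok).trans_eq rfl) ?_
  exact CfsgLib.MathieuOut.one_le_card_out

end CfsgLib.Rigid.Co3
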