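import Cfsg.Agent.Lib.Rigid.Make
import Cfsg.Agent.Lib.Rigid.Co2Data

/-!
# The checks of the certificate for Co2
-/

set_option autoImplicit false
set_option maxRecDepth 30000

namespace CfsgLib.Rigid.Co2

open CfsgLib.Rigid

theorem table_ok : tableTest tabE tabD gram = true := by decide +kernel

theorem autU_ok : Basis.autTest gram matU matUinv matUG = true := by decide +kernel

theorem autV_ok : Basis.autTest gram matV matVinv matVG = true := by decide +kernel

theorem autW_ok : Basis.autTest gram matW matWinv matWG = true := by decide +kernel

theorem code_ok : eqL (Basis.matCode matU) data.u = true ∧ eqL (Basis.matCode matV) data.v = true ∧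
    eqL (Basis.matCode matW) data.w = true ∧ eqL Basis.oneCode data.one = true := by decide +kernel

theorem row_ok : matU.head? = some (Basis.idMat.headD []) ∧ matV.head? = some (Basis.idMat.headD []) ∧
    matW.head? = some (Basis.idMat.headD []) := by decide +kernel

theorem ops_ok : slpOk data.one data.ops [data.u, data.v, data.w] = true := by decide +kernel

theorem small_ok : data.smallOk = true := by decide +kernel

theorem sep_ok : data.sepOk = true := by decide +kernel

theorem cu_ok : data.consCheck data.u data.u data.cu = true := by decide +kernel

theorem cv_ok : data.consCheck data.v (powC data.one data.v data.s) data.cv = true := by decide +kernel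

theorem searchU_ok : data.searchU = true := by decide +kernel

theorem searchV_ok : data.searchV = true := by decide +kernel

theorem level0_ok : lev0.ok data.one data.known [] = true := by decide +kernel

theorem level1_ok : lev1.ok data.one data.known [lev0.b] = true := by decide +kernel

theorem level2_ok : lev2.ok data.one data.known (lev1.b :: [lev0.b]) = true := by decide +kernel

theorem level3_ok : lev3.ok data.one data.known (lev2.b :: (lev1.b :: [lev0.b])) = true := by decide +kernel

theorem level4_ok : lev4.ok data.one data.known (lev3.b :: (lev2.b :: (lev1.b :: [lev0.b]))) = true := by decide +kernel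

theorem level5_ok : lev5.ok data.one data.known (lev4.b :: (lev3.b :: (lev2.b :: (lev1.b :: [lev0.b])))) = true := by decide +kernel

end CfsgLib.Rigid.Co2
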