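import Cfsg.Agent.Lib.Rigid.Chain

/-!
# Checkable straight-line programs and orbit trees
-/

set_option autoImplicit false

namespace CfsgLib.Rigid

/-- One step of a straight-line program: an inverse or a product, with its code. -/
structure Op where
  /-- Whether the step is an inverse. -/
  inv : Bool
  /-- The first argument. -/
  i : ℕ
  /-- The second argument. -/
  j : ℕ
  /-- The code of the result. -/
  M : List ℕ

/-- The check of one step. -/
noncomputable def Op.ok (one : List ℕ) (known : List (List ℕ)) (o : Op) : Bool :=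
  match o.inv with
  | true => eqL (mulF o.M (known.getD o.i [])) one && eqL (mulF o.M one) o.M && decide (o.i < known.length)
  | false => eqL (mulF (known.getD o.i []) (known.getD o.j [])) o.M &&
      decide (o.i < known.length) && decide (o.j < known.length)

/-- The check of a program. -/
noncomputable def slpOk (one : List ℕ) : List Op → List (List ℕ) → Bool
  | [], _ => true
  | o :: os, known => o.ok one known && slpOk one os (known ++ [o.M])

/-- The check of an orbit tree on points. -/
noncomputable def treeP (gens : List (List ℕ)) : List (ℕ × ℕ × ℕ) → List ℕ → Bool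
  | [], _ => true
  | (k, gi, p) :: es, st =>
    match st.drop k with
    | [] => false
    | h :: st' => decide (gi < gens.length) && Nat.beq (img (gens.getD gi []) h) p &&
        treeP gens es (p :: h :: st')

/-- The check of an orbit tree on codes. -/
noncomputable def treeM (b : ℕ) (gens : List (List ℕ)) :
    List (ℕ × ℕ × ℕ × List ℕ) → List (List ℕ) → Bool
  | [], _ => true
  | (k, gi, p, M) :: es, st =>
    match st.drop k with
    | [] => false
    | h :: st' => decide (gi < gens.length) && eqL (mulF (gens.getD gi []) h) M &&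
        Nat.beq (img M b) p && treeM b gens es (M :: h :: st')

/-- The points of a tree. -/
def ptsP (b : ℕ) (es : List (ℕ × ℕ × ℕ)) : List ℕ := b :: es.map fun e => e.2.2

/-- The representatives of a tree. -/
def optsM (b : ℕ) (one : List ℕ) (es : List (ℕ × ℕ × ℕ × List ℕ)) : List (ℕ × List ℕ) :=
  (b, one) :: es.map fun e => (e.2.2.1, e.2.2.2)

/-- The data of one level. -/
structure Level where
  /-- The base point. -/
  b : ℕ
  /-- The positions of the generators. -/
  gi : List ℕ
  /-- The tree on points. -/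
  tp : List (ℕ × ℕ × ℕ)
  /-- The tree on codes. -/
  tm : List (ℕ × ℕ × ℕ × List ℕ)

/-- The codes of the generators of a level. -/
def Level.gens (known : List (List ℕ)) (L : Level) : List (List ℕ) := L.gi.map fun i => known.getD i []

/-- The orbit of a level: the tree on points if there is one, else the one on codes. -/
def Level.pts (L : Level) : List ℕ :=
  match L.tp with
  | [] => L.b :: L.tm.map fun e => e.2.2.1
  | _ :: _ => ptsP L.b L.tp

/-- A fast test that the members of a list are distinct, splitting by binary digits. -/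
noncomputable def ndTest : ℕ → List ℕ → Bool
  | _, [] => true
  | _, [_] => true
  | 0, _ :: _ :: _ => false
  | n + 1, a :: b :: l =>
    ndTest n (((a :: b :: l).filter fun x => Nat.beq (x % 2) 0).map fun x => x / 2) &&
      ndTest n (((a :: b :: l).filter fun x => !(Nat.beq (x % 2) 0)).map fun x => x / 2)

theorem nodup_of_ndTest : ∀ (n : ℕ) (l : List ℕ), ndTest n l = true → l.Nodup := by
  intro n
  induction n with
  | zero =>
    intro l h
    match l, h with
    | [], _ => exact List.nodup_nil
    | [_], _ => exact List.nodup_singleton _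
  | succ n ih =>
    intro l h
    match l, h with
    | [], _ => exact List.nodup_nil
    | [_], _ => exact List.nodup_singleton _
    | a :: b :: l, h =>
      simp only [ndTest, Bool.and_eq_true] at h
      have h0 := List.Nodup.of_map _ (ih _ h.1)
      have h1 := List.Nodup.of_map _ (ih _ h.2)
      exact (List.filter_append_perm _ (a :: b :: l)).nodup_iff.1
        (List.nodup_append.2 ⟨h0, h1, fun x hx y hy e => by
          subst e
          rw [List.mem_filter] at hx hy
          simp [hx.2] at hy⟩)

/-- The check of a level. -/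
noncomputable def Level.ok (one : List ℕ) (known : List (List ℕ)) (fixed : List ℕ) (L : Level) : Bool :=
  (L.gi.all fun i => decide (i < known.length) &&
    fixed.all fun x => Nat.beq (img (known.getD i []) x) x) &&
  Nat.beq (img one L.b) L.b && treeP (L.gens known) L.tp [L.b] && treeM L.b (L.gens known) L.tm [one] &&
  ndTest 24 L.pts

namespace Cod

variable {G : Type*} [Group G] (c : Cod G)

/-- A code that comes from a subgroup. -/
def Mem (K : Subgroup G) (M : List ℕ) : Prop := ∃ g ∈ K, c.C g = M

theorem slp_sound {K : Subgroup G} {one : List ℕ} (h1 : c.C 1 = one) :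
    ∀ (os : List Op) (known : List (List ℕ)), (∀ M ∈ known, c.Mem K M) →
      slpOk one os known = true → ∀ M ∈ known ++ os.map Op.M, c.Mem K M := by
  intro os
  induction os with
  | nil => intro known hk _ M hM; exact hk M (by simpa using hM)
  | cons o os ih =>
    intro known hk hok M hM
    simp only [slpOk, Bool.and_eq_true] at hok
    refine ih (known ++ [o.M]) ?_ hok.2 M (by simpa using hM)
    intro N hN
    rcases List.mem_append.1 hN with hN | hN
    · exact hk N hN
    rw [List.mem_singleton] at hN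
    subst hN
    have ho := hok.1
    unfold Op.ok at ho
    split at ho <;> simp only [Bool.and_eq_true, decide_eq_true_eq, eqL_iff] at ho
    · obtain ⟨⟨e1, e2⟩, hi⟩ := ho
      rw [List.getD_eq_getElem _ _ hi] at e1
      obtain ⟨g, hg, eg⟩ := hk _ (List.getElem_mem hi)
      refine ⟨g⁻¹, K.inv_mem hg, ?_⟩
      rw [← eg] at e1
      have e3 : c.C (1 * g⁻¹) = mulF one (c.C g⁻¹) := by rw [c.mul, h1]
      rw [one_mul] at e3
      rw [e3, ← e1]
      have e4 : mulF (mulF o.M (c.C g)) (c.C g⁻¹) = mulF o.M (mulF (c.C g) (c.C g⁻¹)) := by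
        simp only [mulF, List.map_map]
        exact List.map_congr_left fun x _ => img_mulF _ _ _
      rw [e4, ← c.mul, mul_inv_cancel, h1, e2]
    · obtain ⟨⟨e, hi⟩, hj⟩ := ho
      rw [List.getD_eq_getElem _ _ hi, List.getD_eq_getElem _ _ hj] at e
      obtain ⟨g, hg, eg⟩ := hk _ (List.getElem_mem hi)
      obtain ⟨h, hh, eh⟩ := hk _ (List.getElem_mem hj)
      exact ⟨g * h, K.mul_mem hg hh, by rw [c.mul, eg, eh, e]⟩

theorem treeP_sound {K : Subgroup G} {l : List ℕ} {b : ℕ} {gens : List (List ℕ)}
    (hg : ∀ M ∈ gens, ∃ g ∈ K, g ∈ c.stab l ∧ c.C g = M) :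
    ∀ (es : List (ℕ × ℕ × ℕ)) (st : List ℕ), (∀ p ∈ st, c.Reach K l b p) →
      treeP gens es st = true → ∀ e ∈ es, c.Reach K l b e.2.2 := by
  intro es
  induction es with
  | nil => simp
  | cons e es ih =>
    intro st hst hok
    obtain ⟨k, gi, p⟩ := e
    simp only [treeP] at hok
    split at hok
    · exact absurd hok (by simp)
    rename_i h st' hd
    simp only [Bool.and_eq_true, decide_eq_true_eq, Nat.beq_eq] at hok
    obtain ⟨⟨hgi, e⟩, hrest⟩ := hok
    rw [List.getD_eq_getElem _ _ hgi] at e
    have hmem : ∀ q ∈ h :: st', q ∈ st := fun q hq => List.mem_of_mem_drop (hd ▸ hq)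
    obtain ⟨g, hgK, hgs, eg⟩ := hg _ (List.getElem_mem hgi)
    obtain ⟨t, htK, hts, et⟩ := hst h (hmem h List.mem_cons_self)
    have hp : c.Reach K l b p :=
      ⟨g * t, K.mul_mem hgK htK, (c.stab l).mul_mem hgs hts, by rw [c.img_mul, et, eg, e]⟩
    intro x hx
    rcases List.mem_cons.1 hx with rfl | hx
    · exact hp
    refine ih _ (fun q hq => ?_) hrest x hx
    rcases List.mem_cons.1 hq with rfl | hq
    · exact hp
    · exact hst q (hmem q hq)

theorem treeM_sound {K : Subgroup G} {l : List ℕ} {b : ℕ} {gens : List (List ℕ)}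
    (hg : ∀ M ∈ gens, ∃ g ∈ K, g ∈ c.stab l ∧ c.C g = M) :
    ∀ (es : List (ℕ × ℕ × ℕ × List ℕ)) (st : List (List ℕ)),
      (∀ M ∈ st, ∃ g ∈ K, g ∈ c.stab l ∧ c.C g = M) → treeM b gens es st = true →
      ∀ e ∈ es, ∃ g ∈ K, g ∈ c.stab l ∧ c.C g = e.2.2.2 ∧ img e.2.2.2 b = e.2.2.1 := by
  intro es
  induction es with
  | nil => simp
  | cons e es ih =>
    intro st hst hok
    obtain ⟨k, gi, p, M⟩ := e
    simp only [treeM] at hok
    split at hok
    · exact absurd hok (by simp)
    rename_i h st' hd
    simp only [Bool.and_eq_true, decide_eq_true_eq, Nat.beq_eq, eqL_iff] at hok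
    obtain ⟨⟨⟨hgi, e⟩, ep⟩, hrest⟩ := hok
    rw [List.getD_eq_getElem _ _ hgi] at e
    have hmem : ∀ q ∈ h :: st', q ∈ st := fun q hq => List.mem_of_mem_drop (hd ▸ hq)
    obtain ⟨g, hgK, hgs, eg⟩ := hg _ (List.getElem_mem hgi)
    obtain ⟨t, htK, hts, et⟩ := hst h (hmem h List.mem_cons_self)
    have hM : ∃ u ∈ K, u ∈ c.stab l ∧ c.C u = M :=
      ⟨g * t, K.mul_mem hgK htK, (c.stab l).mul_mem hgs hts, by rw [c.mul, et, eg, e]⟩
    intro x hx
    rcases List.mem_cons.1 hx with rfl | hx
    · obtain ⟨u, h1, h2, h3⟩ := hM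
      exact ⟨u, h1, h2, h3, ep⟩
    refine ih _ (fun q hq => ?_) hrest x hx
    rcases List.mem_cons.1 hq with rfl | hq
    · exact hM
    · exact hst q (hmem q hq)

/-- The representatives of a level are valid. -/
def OptsOK (l : List ℕ) (b : ℕ) (opts : List (ℕ × List ℕ)) : Prop :=
  ∀ o ∈ opts, ∃ g ∈ c.stab l, c.C g = o.2 ∧ img o.2 b = o.1

theorem level_sound {K : Subgroup G} {one : List ℕ} (h1 : c.C 1 = one) {known : List (List ℕ)}
    (hk : ∀ M ∈ known, c.Mem K M) {fixed : List ℕ} {L : Level} (hok : L.ok one known fixed = true) :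
    (∀ p ∈ L.pts, c.Reach K fixed L.b p) ∧ L.pts.Nodup ∧ c.OptsOK fixed L.b (optsM L.b one L.tm) := by
  simp only [Level.ok, Bool.and_eq_true, List.all_eq_true, decide_eq_true_eq, Nat.beq_eq] at hok
  obtain ⟨⟨⟨⟨hgi, hb⟩, hP⟩, hM⟩, hn⟩ := hok
  have hn := nodup_of_ndTest _ _ hn
  have hg : ∀ M ∈ L.gens known, ∃ g ∈ K, g ∈ c.stab fixed ∧ c.C g = M := by
    intro M hM
    obtain ⟨i, hi, rfl⟩ := List.mem_map.1 hM
    obtain ⟨hlt, hfix⟩ := hgi i hi
    have hmem : known.getD i [] ∈ known := by
      rw [List.getD_eq_getElem _ _ hlt]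
      exact List.getElem_mem hlt
    obtain ⟨g, hgK, eg⟩ := hk _ hmem
    exact ⟨g, hgK, fun x hx _ => by rw [eg]; exact hfix x hx, eg⟩
  have hroot : c.Reach K fixed L.b L.b := ⟨1, K.one_mem, (c.stab fixed).one_mem, by rw [h1, hb]⟩
  have tp := c.treeP_sound hg L.tp [L.b] (fun p hp => by
    rw [List.mem_singleton] at hp; subst hp; exact hroot) hP
  have tm := c.treeM_sound (b := L.b) hg L.tm [one] (fun M hM => by
    rw [List.mem_singleton] at hM; subst hM
    exact ⟨1, K.one_mem, (c.stab fixed).one_mem, h1⟩) hM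
  refine ⟨fun p hp => ?_, hn, fun o ho => ?_⟩
  · unfold Level.pts at hp
    split at hp
    · rcases List.mem_cons.1 hp with rfl | hp
      · exact hroot
      obtain ⟨e, he, rfl⟩ := List.mem_map.1 hp
      obtain ⟨g, hgK, hgs, eg, ep⟩ := tm e he
      exact ⟨g, hgK, hgs, by rw [eg]; exact ep⟩
    · rcases List.mem_cons.1 hp with rfl | hp
      · exact hroot
      obtain ⟨e, he, rfl⟩ := List.mem_map.1 hp
      exact tp e he
  · rcases List.mem_cons.1 ho with rfl | ho
    · exact ⟨1, (c.stab fixed).one_mem, h1, hb⟩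
    obtain ⟨e, he, rfl⟩ := List.mem_map.1 ho
    obtain ⟨g, -, hgs, eg, ep⟩ := tm e he
    exact ⟨g, hgs, eg, ep⟩

/-- All levels of a certificate. -/
def Levels (one : List ℕ) (known : List (List ℕ)) : List ℕ → List Level → Prop
  | _, [] => True
  | l, L :: Ls => c.Pt L.b ∧ L.ok one known l = true ∧ Levels one known (L.b :: l) Ls

theorem chain_of_levels {K : Subgroup G} {one : List ℕ} (h1 : c.C 1 = one) {known : List (List ℕ)}
    (hk : ∀ M ∈ known, c.Mem K M) : ∀ (Ls : List Level) (l : List ℕ), c.Levels one known l Ls →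
      c.ChainOK K l (Ls.map fun L => (L.b, L.pts)) := by
  intro Ls
  induction Ls with
  | nil => intro l _; trivial
  | cons L Ls ih =>
    intro l h
    obtain ⟨hr, hn, -⟩ := c.level_sound h1 hk h.2.1
    exact ⟨h.1, hr, hn, ih _ h.2.2⟩

end Cod

end CfsgLib.Rigid
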