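import Mathlib

/-!
# Linear maps over the field with two elements as lists of bit masks

`img A p` is the exclusive or of the columns of `A` selected by the bits of `p`.
-/

set_option autoImplicit false

namespace CfsgLib.Rigid

/-- The image of a bit vector under a list of columns. -/
noncomputable def img (A : List ℕ) : ℕ → ℕ :=
  List.rec (fun _ => 0) (fun a _ r p => Nat.xor (Nat.mul (Nat.mod p 2) a) (r (Nat.div p 2))) A

theorem img_nil (p : ℕ) : img [] p = 0 := rfl

theorem img_cons (a : ℕ) (A : List ℕ) (p : ℕ) :
    img (a :: A) p = (p % 2 * a) ^^^ img A (p / 2) := rfl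

/-- The product of two lists of columns. -/
noncomputable def mulF (A B : List ℕ) : List ℕ := B.map (img A)

theorem img_zero (A : List ℕ) : img A 0 = 0 := by
  induction A with
  | nil => rfl
  | cons a A ih => simp [img_cons, ih]

theorem img_xor (A : List ℕ) : ∀ p q : ℕ, img A (p ^^^ q) = img A p ^^^ img A q := by
  induction A with
  | nil => intro p q; simp [img_nil]
  | cons a A ih =>
    intro p q
    have h2 : (p ^^^ q) / 2 = p / 2 ^^^ q / 2 := Nat.xor_div_two
    have h1 : (p ^^^ q) % 2 * a = (p % 2 * a) ^^^ (q % 2 * a) := by
      rcases Nat.mod_two_eq_zero_or_one p with hp | hp <;>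
        rcases Nat.mod_two_eq_zero_or_one q with hq | hq <;>
        · have hx : (p ^^^ q) % 2 = (p + q) % 2 := by
            rw [← Nat.pow_one 2, Nat.xor_mod_two_pow]
            simp [hp, hq]
            omega
          rw [hx, hp, hq, Nat.add_mod, hp, hq]
          simp
    rw [img_cons, img_cons, img_cons, h2, ih, h1]
    ac_rfl

theorem img_mulF (A : List ℕ) : ∀ (B : List ℕ) (p : ℕ), img (mulF A B) p = img A (img B p) := by
  intro B
  induction B with
  | nil => intro p; simp [mulF, img_nil, img_zero]
  | cons b B ih =>
    intro p
    have hm : mulF A (b :: B) = img A b :: mulF A B := rfl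
    rw [hm, img_cons, img_cons, ih, img_xor]
    congr 1
    rcases Nat.mod_two_eq_zero_or_one p with hp | hp <;> simp [hp, img_zero]

/-- The parities of a list of integers, packed. -/
def pack : List ℤ → ℕ
  | [] => 0
  | c :: cs => 2 * pack cs + c.natAbs % 2

theorem pack_cons_div (c : ℤ) (cs : List ℤ) : pack (c :: cs) / 2 = pack cs := by
  simp only [pack]; omega

theorem pack_cons_mod (c : ℤ) (cs : List ℤ) : pack (c :: cs) % 2 = c.natAbs % 2 := by
  simp only [pack]; omega

theorem pack_add : ∀ a b : List ℤ, a.length = b.length →
    pack (List.zipWith (· + ·) a b) = pack a ^^^ pack b := by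
  intro a
  induction a with
  | nil => intro b h; obtain rfl := List.length_eq_zero_iff.1 h.symm; rfl
  | cons x a ih =>
    intro b h
    match b, h with
    | y :: b, h =>
      have e1 : pack (List.zipWith (· + ·) (x :: a) (y :: b)) / 2 =
          (pack (x :: a) ^^^ pack (y :: b)) / 2 := by
        rw [Nat.xor_div_two, List.zipWith_cons_cons, pack_cons_div, pack_cons_div, pack_cons_div]
        exact ih b (by simpa using h)
      have e2 : pack (List.zipWith (· + ·) (x :: a) (y :: b)) % 2 =
          (pack (x :: a) ^^^ pack (y :: b)) % 2 := by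
        have hx : (pack (x :: a) ^^^ pack (y :: b)) % 2 =
            (pack (x :: a) % 2 + pack (y :: b) % 2) % 2 := by
          rw [← Nat.pow_one 2, Nat.xor_mod_two_pow, Nat.pow_one, pack_cons_mod, pack_cons_mod]
          rcases Nat.mod_two_eq_zero_or_one x.natAbs with hp | hp <;>
            rcases Nat.mod_two_eq_zero_or_one y.natAbs with hq | hq <;> simp [hp, hq]
        rw [hx, List.zipWith_cons_cons, pack_cons_mod, pack_cons_mod, pack_cons_mod]
        omega
      omega

theorem pack_lt : ∀ a : List ℤ, pack a < 2 ^ a.length := by
  intro a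
  induction a with
  | nil => simp [pack]
  | cons x a ih => simp only [pack, List.length_cons, pow_succ]; omega

/-- A linear combination goes to the image of its packed coefficients. -/
theorem img_pack {M : Type*} [AddCommGroup M] (f : M → ℕ) (hf : ∀ x y, f (x + y) = f x ^^^ f y) :
    ∀ (cs : List ℤ) (es : List M), cs.length = es.length →
      f (List.zipWith (fun c e => c • e) cs es).sum = img (es.map f) (pack cs) := by
  have h0 : f 0 = 0 := by
    have := hf 0 0
    simpa using this
  have hneg : ∀ x, f (-x) = f x := fun x => by
    have := hf x (-x)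
    rw [add_neg_cancel, h0] at this
    exact (Nat.xor_eq_zero_iff.1 this.symm).symm
  have hn : ∀ (n : ℕ) x, f (n • x) = n % 2 * f x := fun n x => by
    induction n with
    | zero => simp [h0]
    | succ n ih =>
      rw [succ_nsmul, hf, ih]
      rcases Nat.mod_two_eq_zero_or_one n with hp | hp
      · rw [hp, show (n + 1) % 2 = 1 by omega]; simp
      · rw [hp, show (n + 1) % 2 = 0 by omega]; simp
  have hz : ∀ (c : ℤ) x, f (c • x) = c.natAbs % 2 * f x := fun c x => by
    rcases Int.natAbs_eq c with h | h
    · conv_lhs => rw [h, natCast_zsmul]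
      exact hn _ _
    · conv_lhs => rw [h, neg_smul, natCast_zsmul, hneg]
      exact hn _ _
  intro cs
  induction cs with
  | nil => intro es h; simp [pack, h0, img_zero]
  | cons c cs ih =>
    intro es h
    match es, h with
    | e :: es, h =>
      rw [List.zipWith_cons_cons, List.sum_cons, hf, hz, List.map_cons, img_cons, pack_cons_mod,
        pack_cons_div, ih es (by simpa using h)]

end CfsgLib.Rigid
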