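import Cfsg.Agent.Lib.Rigid.Bits

/-!
# Counting certificates for a group acting linearly on bit vectors

A chain of orbits whose sizes multiply to the group order shows that every orbit is complete, that
the action is faithful and that the chosen elements generate.
-/

set_option autoImplicit false

namespace CfsgLib.Rigid

/-- Equality of lists of numbers. -/
noncomputable def eqL (A : List ℕ) : List ℕ → Bool :=
  List.rec (fun B => List.rec true (fun _ _ _ => false) B)
    (fun a _ r B => List.rec false (fun b B' _ => Nat.beq a b && r B') B) A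

theorem eqL_nil_nil : eqL [] [] = true := rfl
theorem eqL_nil_cons (b : ℕ) (B : List ℕ) : eqL [] (b :: B) = false := rfl
theorem eqL_cons_nil (a : ℕ) (A : List ℕ) : eqL (a :: A) [] = false := rfl
theorem eqL_cons_cons (a b : ℕ) (A B : List ℕ) : eqL (a :: A) (b :: B) = (Nat.beq a b && eqL A B) := rfl

theorem eqL_iff : ∀ A B : List ℕ, eqL A B = true ↔ A = B := by
  intro A
  induction A with
  | nil =>
    intro B
    cases B with
    | nil => simp [eqL_nil_nil]
    | cons b B => simp [eqL_nil_cons]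
  | cons a A ih =>
    intro B
    cases B with
    | nil => simp [eqL_cons_nil]
    | cons b B => simp [eqL_cons_cons, ih]

/-- A group acting on bit vectors through codes that multiply as matrices. -/
structure Cod (G : Type*) [Group G] where
  /-- The code of an element. -/
  C : G → List ℕ
  /-- The valid bit vectors. -/
  Pt : ℕ → Prop
  mul : ∀ g h, C (g * h) = mulF (C g) (C h)
  img_pt : ∀ g p, Pt p → Pt (img (C g) p)
  one_img : ∀ p, Pt p → img (C 1) p = p

namespace Cod

variable {G : Type*} [Group G] (c : Cod G)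

theorem img_mul (g h : G) (p : ℕ) : img (c.C (g * h)) p = img (c.C g) (img (c.C h) p) := by
  rw [c.mul, img_mulF]

theorem img_inv_img (g : G) {p : ℕ} (hp : c.Pt p) : img (c.C g⁻¹) (img (c.C g) p) = p := by
  rw [← c.img_mul, inv_mul_cancel, c.one_img p hp]

/-- The pointwise stabiliser of some bit vectors. -/
def stab (l : List ℕ) : Subgroup G where
  carrier := {g | ∀ b ∈ l, c.Pt b → img (c.C g) b = b}
  one_mem' := fun b _ hb => c.one_img b hb
  mul_mem' := fun {g h} hg hh b hbl hb => by rw [c.img_mul, hh b hbl hb, hg b hbl hb]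
  inv_mem' := fun {g} hg b hbl hb => by
    conv_lhs => rw [← hg b hbl hb]
    exact c.img_inv_img g hb

theorem stab_nil : c.stab [] = ⊤ := eq_top_iff.2 fun g _ b h => absurd h (by simp)

theorem mem_stab_cons {g : G} {b : ℕ} {l : List ℕ} (hb : c.Pt b) :
    g ∈ c.stab (b :: l) ↔ g ∈ c.stab l ∧ img (c.C g) b = b := by
  constructor
  · exact fun h => ⟨fun x hx => h x (List.mem_cons_of_mem _ hx), h b List.mem_cons_self hb⟩
  · rintro ⟨h1, h2⟩ x hx hxp
    rcases List.mem_cons.1 hx with rfl | hx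
    · exact h2
    · exact h1 x hx hxp

/-- A point reached from a base point inside a stabiliser. -/
def Reach (K : Subgroup G) (l : List ℕ) (b p : ℕ) : Prop :=
  ∃ g ∈ K, g ∈ c.stab l ∧ img (c.C g) b = p

/-- The certificate: distinct points, all reached. -/
def ChainOK (K : Subgroup G) : List ℕ → List (ℕ × List ℕ) → Prop
  | _, [] => True
  | l, L :: Ls => c.Pt L.1 ∧ (∀ p ∈ L.2, c.Reach K l L.1 p) ∧ L.2.Nodup ∧ ChainOK K (L.1 :: l) Ls

/-- The orbits are complete and the last stabiliser is trivial. -/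
def Full : List ℕ → List (ℕ × List ℕ) → Prop
  | l, [] => ∀ g ∈ c.stab l, g = 1
  | l, L :: Ls => (∀ g ∈ c.stab l, img (c.C g) L.1 ∈ L.2) ∧ Full (L.1 :: l) Ls

/-- The product of the orbit lengths. -/
def prodLen : List (ℕ × List ℕ) → ℕ
  | [] => 1
  | L :: Ls => L.2.length * prodLen Ls

theorem card_stab [Finite G] {b : ℕ} (l : List ℕ) (hb : c.Pt b) :
    Nat.card (c.stab l) =
      Nat.card (Set.range fun g : c.stab l => img (c.C g.1) b) * Nat.card (c.stab (b :: l)) := by
  let H := c.stab l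
  let K : Subgroup H := (c.stab (b :: l)).subgroupOf H
  have hle : c.stab (b :: l) ≤ H := fun g hg => ((c.mem_stab_cons hb).1 hg).1
  have hK : ∀ g h : H, g⁻¹ * h ∈ K ↔ img (c.C g.1) b = img (c.C h.1) b := by
    intro g h
    show (g.1⁻¹ * h.1) ∈ c.stab (b :: l) ↔ _
    rw [c.mem_stab_cons hb, and_iff_right (H.mul_mem (H.inv_mem g.2) h.2), c.img_mul]
    constructor
    · intro e
      conv_lhs => rw [← e]
      have h' := c.img_inv_img g.1⁻¹ (c.img_pt h.1 b hb)
      rwa [inv_inv] at h'
    · intro e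
      rw [← e, c.img_inv_img g.1 hb]
  let f : H ⧸ K → Set.range fun g : H => img (c.C g.1) b :=
    Quotient.lift (fun g => ⟨_, g, rfl⟩) fun g h e =>
      Subtype.ext ((hK g h).1 (QuotientGroup.leftRel_apply.1 e))
  have hf : Function.Bijective f := by
    refine ⟨fun x y => ?_, fun ⟨p, g, hg⟩ => ⟨QuotientGroup.mk g, Subtype.ext hg⟩⟩
    refine Quotient.inductionOn₂ x y fun g h e => ?_
    exact QuotientGroup.eq.2 ((hK g h).2 (congrArg Subtype.val e))
  rw [Subgroup.card_eq_card_quotient_mul_card_subgroup K, Nat.card_eq_of_bijective f hf,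
    Nat.card_congr (Subgroup.subgroupOfEquivOfLe hle).toEquiv]

theorem prodLen_le [Finite G] {K : Subgroup G} : ∀ (Ls : List (ℕ × List ℕ)) (l : List ℕ),
    c.ChainOK K l Ls → prodLen Ls ≤ Nat.card (c.stab l) ∧
      (Nat.card (c.stab l) ≤ prodLen Ls → c.Full l Ls ∧ c.stab l ≤ K) := by
  intro Ls
  induction Ls with
  | nil =>
    intro l _
    refine ⟨Nat.card_pos, fun h => ?_⟩
    have h1 : c.stab l = ⊥ := Subgroup.card_eq_one.1 (le_antisymm h Nat.card_pos)
    exact ⟨fun g hg => by rw [h1] at hg; exact hg, h1 ▸ bot_le⟩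
  | cons L Ls ih =>
    intro l h
    obtain ⟨hb, hr, hn, hrest⟩ := h
    obtain ⟨i1, i2⟩ := ih _ hrest
    set R := Set.range fun g : c.stab l => img (c.C g.1) L.1 with hR
    have hsub : {p | p ∈ L.2} ⊆ R := fun p hp => by
      obtain ⟨g, -, hg, e⟩ := hr p hp
      exact ⟨⟨g, hg⟩, e⟩
    have hfin : R.Finite := Set.finite_range _
    have hcardp : {p | p ∈ L.2}.ncard = L.2.length := by
      rw [← List.toFinset_card_of_nodup hn, ← Set.ncard_coe_finset]
      congr 1
      ext p
      simp
    have hlen : L.2.length ≤ R.ncard := hcardp ▸ Set.ncard_le_ncard hsub hfin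
    rw [c.card_stab l hb, ← hR, Nat.card_coe_set_eq R]
    show L.2.length * prodLen Ls ≤ _ ∧ (_ → _)
    refine ⟨Nat.mul_le_mul hlen i1, fun hle => ?_⟩
    have hle' : R.ncard * Nat.card (c.stab (L.1 :: l)) ≤ L.2.length * prodLen Ls := hle
    have hRpos : 0 < R.ncard :=
      (Set.ncard_pos hfin).2 ⟨_, ⟨(1 : c.stab l), rfl⟩⟩
    have hppos : 0 < Nat.card (c.stab (L.1 :: l)) := Nat.card_pos
    have e1 : R.ncard ≤ L.2.length := by
      by_contra hlt
      have := Nat.mul_lt_mul_of_lt_of_le (Nat.lt_of_not_ge hlt) i1 hppos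
      omega
    have e2 : Nat.card (c.stab (L.1 :: l)) ≤ prodLen Ls := by
      have : R.ncard = L.2.length := le_antisymm e1 hlen
      rw [this] at hle' hRpos
      exact Nat.le_of_mul_le_mul_left hle' hRpos
    have heq : {p | p ∈ L.2} = R := Set.eq_of_subset_of_ncard_le hsub (by omega) hfin
    refine ⟨⟨fun g hg => ?_, (i2 e2).1⟩, fun g hg => ?_⟩
    · have : img (c.C g) L.1 ∈ R := ⟨⟨g, hg⟩, rfl⟩
      rw [← heq] at this
      exact this
    · have : img (c.C g) L.1 ∈ R := ⟨⟨g, hg⟩, rfl⟩
      rw [← heq] at this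
      obtain ⟨t, htK, ht, e⟩ := hr _ this
      have h1 : t⁻¹ * g ∈ c.stab (L.1 :: l) := (c.mem_stab_cons hb).2
        ⟨(c.stab l).mul_mem ((c.stab l).inv_mem ht) hg, by rw [c.img_mul, ← e, c.img_inv_img t hb]⟩
      have h2 := K.mul_mem htK ((i2 e2).2 h1)
      rwa [mul_inv_cancel_left] at h2

theorem full_of_card [Finite G] {K : Subgroup G} {Ls : List (ℕ × List ℕ)}
    (h : c.ChainOK K [] Ls) (hcard : Nat.card G = prodLen Ls) : c.Full [] Ls ∧ K = ⊤ := by
  have := (c.prodLen_le Ls [] h).2 (by rw [c.stab_nil, Subgroup.card_top, hcard])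
  exact ⟨this.1, top_le_iff.1 (c.stab_nil ▸ this.2)⟩

theorem eq_one_of_full : ∀ (Ls : List (ℕ × List ℕ)) (l : List ℕ), c.Full l Ls → ∀ g ∈ c.stab l,
    (∀ L ∈ Ls, img (c.C g) L.1 = L.1) → g = 1 := by
  intro Ls
  induction Ls with
  | nil => intro l h g hg _; exact h g hg
  | cons L Ls ih =>
    intro l h g hg hfix
    refine ih _ h.2 g (fun b hb hbp => ?_) fun M hM => hfix M (List.mem_cons_of_mem _ hM)
    rcases List.mem_cons.1 hb with rfl | hb
    · exact hfix L List.mem_cons_self
    · exact hg b hb hbp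

theorem pt_of_chain {K : Subgroup G} : ∀ (Ls : List (ℕ × List ℕ)) (l : List ℕ),
    c.ChainOK K l Ls → ∀ L ∈ Ls, c.Pt L.1 := by
  intro Ls
  induction Ls with
  | nil => simp
  | cons L Ls ih =>
    intro l h M hM
    rcases List.mem_cons.1 hM with rfl | hM
    · exact h.1
    · exact ih _ h.2.2.2 M hM

theorem injective_of_full {K : Subgroup G} {Ls : List (ℕ × List ℕ)}
    (h : c.ChainOK K [] Ls) (hfull : c.Full [] Ls) : Function.Injective c.C := by
  intro g g' e
  refine inv_mul_eq_one.1 (c.eq_one_of_full Ls [] hfull _ (by rw [c.stab_nil]; trivial) fun L hL => ?_)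
  rw [c.img_mul, ← e, c.img_inv_img g (c.pt_of_chain Ls [] h L hL)]

end Cod

end CfsgLib.Rigid
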