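import Cfsg.Agent.Lib.Rigid.Out
import Cfsg.Agent.Lib.Rigid.Co1Data

/-!
# The small checks of the certificate for the first Conway group
-/

set_option autoImplicit false

namespace CfsgLib.Rigid.Co1

open CfsgLib.Rigid

/-- The exclusive or of two lists of columns. -/
noncomputable def xorCols (A B : List ℕ) : List ℕ := List.zipWith (fun a b => a ^^^ b) A B

theorem img_xorCols : ∀ (A B : List ℕ) (p : ℕ), A.length = B.length →
    img (xorCols A B) p = img A p ^^^ img B p := by
  intro A
  induction A with
  | nil =>
    intro B p h
    obtain rfl := List.length_eq_zero_iff.1 h.symm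
    simp [xorCols, img_nil]
  | cons a A ih =>
    intro B p h
    match B, h with
    | b :: B, h =>
      have e : xorCols (a :: A) (b :: B) = (a ^^^ b) :: xorCols A B := rfl
      rw [e, img_cons, img_cons, img_cons, ih B _ (by simpa using h)]
      rcases Nat.mod_two_eq_zero_or_one p with hp | hp <;> rw [hp] <;>
        simp only [Nat.zero_mul, Nat.one_mul, Nat.zero_xor] <;> ac_rfl

/-- The exclusive or of the first powers. -/
noncomputable def avgC : ℕ → List ℕ
  | 0 => List.replicate 24 0
  | n + 1 => xorCols (avgC n) (powC one cV n)

/-- The exponents of the solution set of the second equation. -/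
def wIdx : List (ℕ × ℕ) := (List.range 11).flatMap fun i => (List.range 6).map fun j => (i, j)

/-- The code of an element of that set. -/
noncomputable def wCode (ij : ℕ × ℕ) : List ℕ :=
  mulF (mulF (powC one cV ij.1) (zTab.getD ij.2 [])) cW

/-- A word that separates a possibility from the generators. -/
noncomputable def separated (k : ℕ) (ij : ℕ × ℕ) : Bool :=
  words.any fun l => !(eqL (evalC one (powC one cU k) cV (wCode ij) l) one)

/-- The relations of the generators. -/
noncomputable def relOk : Bool :=
  eqL (powC one cU 23) one && !(eqL cU one) && eqL (mulF cV cU) (mulF (powC one cU 2) cV) &&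
  eqL (mulF cW cV) (mulF (powC one cV 10) cW) && eqL (powC one cV 11) one &&
  Nat.beq (img cV base) base && words.all (fun l => eqL (evalC one cU cV cW l) one)

/-- The relations of the centraliser of the element of order 11. -/
noncomputable def zOk : Bool :=
  decide (zTab.length = 6) && decide (sixTab.length = 6) &&
  ((List.range 6).all fun j => eqL (mulF (zTab.getD j []) cV) (mulF cV (zTab.getD j [])) &&
    Nat.beq (img (zTab.getD j []) base) (sixTab.getD j 0)) &&
  ((List.range 6).all fun j => (List.range 6).all fun l => (List.range 11).any fun m =>
    (List.range 6).any fun k =>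
      eqL (mulF (zTab.getD j []) (zTab.getD l [])) (mulF (powC one cV m) (zTab.getD k [])))

/-- The fixed points of the element of order 11. -/
def spanTab : List ℕ := sixTab ++ otherTab.map fun t => t.1

/-- The fixed points are among those listed. -/
noncomputable def spanOk : Bool :=
  eqL avg (avgC 11) && ((List.range 11).all fun n => (avgC n).length == (powC one cV n).length) &&
    avg.all spanTab.elem && spanTab.elem 0 &&
    spanTab.all fun a => spanTab.all fun b => spanTab.elem (Nat.xor a b)

/-- The separation of the possibilities. -/
noncomputable def sepOk : Bool :=
  [1, 5].all fun k => wIdx.all fun ij => validTab.elem (k, ij) || separated k ij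

/-- The codes known from the program. -/
def known : List (List ℕ) := [cU, cV, cW] ++ ops.map Op.M

/-- The levels of the search. -/
def slevs : List SLev :=
  List.zipWith (fun L k => ⟨L.b, L.pts, optsM L.b one L.tm, k.1, k.2⟩) levels eqs

/-- The check of the equations. -/
noncomputable def consOk : Bool :=
  eqs.all fun k => match k.1 with
    | none => true
    | some k => eqL (powC one cV k.k) k.A && eqL (powC one (powC one cV 10) k.k) k.B

/-- The search. -/
noncomputable def searchOk : Bool :=
  srch cV (powC one cV 10) 11 (wIdx.map wCode) slevs [base] one

end CfsgLib.Rigid.Co1
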