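import Cfsg.Agent.Lib.Rigid.Spor
import Cfsg.Agent.Lib.Leech.ConwaySimple.Co1
import Cfsg.Agent.Lib.MonsterType.Mod2

/-!
# Codes of the first Conway group on the lattice modulo twice itself
-/

set_option autoImplicit false

namespace CfsgLib.Rigid

open Cfsg CfsgLib.Golay CfsgLib.Leech

namespace Basis

variable (B : Basis)

/-- The parities of all coordinates. -/
def code1 (x : leechLattice) : ℕ := pack (List.ofFn fun j : Fin 24 => innerL (B.d j) x)

theorem code1_add (x y : leechLattice) : B.code1 (x + y) = B.code1 x ^^^ B.code1 y := by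
  rw [code1, code1, code1, ← pack_add _ _ (by simp)]
  congr 1
  refine List.ext_getElem (by simp) fun n h1 h2 => ?_
  simp

theorem code1_zero : B.code1 0 = 0 := by
  have := B.code1_add 0 0
  simpa using this

theorem code1_neg (x : leechLattice) : B.code1 (-x) = B.code1 x := by
  have := B.code1_add x (-x)
  rw [add_neg_cancel, B.code1_zero] at this
  exact (Nat.xor_eq_zero_iff.1 this.symm).symm

/-- The columns of the action on all coordinates. -/
def cols1 (g : Co0) : List ℕ := List.ofFn fun j : Fin 24 => B.code1 (g • B.e j)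

theorem code1_smul (g : Co0) (x : leechLattice) : B.code1 (g • x) = img (B.cols1 g) (B.code1 x) := by
  let F : leechLattice →+ leechLattice := AddMonoidHom.mk' (fun v => g • v) (smul_add' g)
  have hx : g • x = (List.zipWith (fun c e => c • e) (List.ofFn fun j : Fin 24 => innerL (B.d j) x)
        (List.ofFn fun j : Fin 24 => g • B.e j)).sum := by
    have e : List.zipWith (fun c e => c • e) (List.ofFn fun j : Fin 24 => innerL (B.d j) x)
        (List.ofFn fun j : Fin 24 => g • B.e j) =
        List.ofFn fun j : Fin 24 => innerL (B.d j) x • (g • B.e j) := by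
      refine List.ext_getElem (by simp) fun n h1 h2 => ?_
      simp
    rw [e, List.sum_ofFn]
    show F x = _
    conv_lhs => rw [B.expand x, map_sum]
    simp only [map_zsmul]
    rfl
  have hm : (List.ofFn fun j : Fin 24 => g • B.e j).map B.code1 = B.cols1 g := by
    refine List.ext_getElem (by simp [cols1]) fun n h1 h2 => ?_
    simp [cols1]
  rw [hx, img_pack B.code1 B.code1_add _ _ (by simp), hm]
  rfl

/-- The code of the identity on all coordinates. -/
def oneCode1 : List ℕ := (List.range 24).map fun j => 2 ^ j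

theorem cols1_one : B.cols1 1 = oneCode1 := by
  have key : ∀ j : Fin 24, pack (List.ofFn fun i : Fin 24 => if i = j then (1 : ℤ) else 0) = 2 ^ j.val := by
    decide +kernel
  refine List.ext_getElem (by simp [cols1, oneCode1]) fun n h1 h2 => ?_
  simp only [cols1, oneCode1, List.getElem_ofFn, List.getElem_map, List.getElem_range, one_smul]
  refine Eq.trans ?_ (key ⟨n, by simpa [cols1] using h1⟩)
  unfold code1
  congr 2
  funext i
  rw [B.ortho]

theorem code1_eq_img (x : leechLattice) : img oneCode1 (B.code1 x) = B.code1 x := by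
  rw [← B.cols1_one, ← B.code1_smul, one_smul]

theorem cols1_mul (g h : Co0) : B.cols1 (g * h) = mulF (B.cols1 g) (B.cols1 h) := by
  refine List.ext_getElem (by simp [cols1, mulF]) fun n h1 h2 => ?_
  simp only [cols1, mulF, List.getElem_ofFn, List.getElem_map, mul_smul]
  exact B.code1_smul g _

theorem cols1_neg : B.cols1 CfsgLib.Leech.negAut = oneCode1 := by
  rw [← B.cols1_one]
  refine List.ext_getElem (by simp [cols1]) fun n h1 h2 => ?_
  simp only [cols1, List.getElem_ofFn, one_smul, CfsgLib.MonsterType.negAut_smul, B.code1_neg]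

theorem congr_of_code1 {x y : leechLattice} (h : B.code1 x = B.code1 y) :
    x - y ∈ twoMul leechLattice := by
  have hz : B.code1 (x - y) = 0 := by
    rw [sub_eq_add_neg, B.code1_add, B.code1_neg, h, Nat.xor_self]
  set z := x - y with hzd
  have key : ∀ l : List ℤ, pack l = 0 → ∀ c ∈ l, (2 : ℤ) ∣ c := by
    intro l
    induction l with
    | nil => simp
    | cons a l ih =>
      intro h c hc
      simp only [pack] at h
      rcases List.mem_cons.1 hc with rfl | hc
      · exact (Int.natCast_dvd (m := 2)).2 (Nat.dvd_of_mod_eq_zero (by omega))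
      · exact ih (by omega) c hc
  have hd : ∀ j, (2 : ℤ) ∣ innerL (B.d j) z := fun j => key _ hz _ (List.mem_ofFn.2 ⟨j, rfl⟩)
  choose a ha using hd
  refine mem_twoMul.2 ⟨∑ j, a j • B.e j, ?_⟩
  rw [B.expand z]
  simp only [ha, Finset.smul_sum, smul_smul]

theorem cols1_of_mat {g : Co0} {N : List (List ℤ)} (hg : ∀ x, g • x = B.linMap N x) (hl : N.length = 24)
    (hr : N.all (fun r => r.length == 24) = true) : B.cols1 g = N.map pack := by
  simp only [List.all_eq_true, beq_iff_eq] at hr
  refine List.ext_getElem (by simp [cols1, hl]) fun n h1 h2 => ?_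
  have hn : n < 24 := by simpa [cols1] using h1
  simp only [cols1, List.getElem_ofFn, List.getElem_map]
  rw [hg, linMap_e, code1]
  congr 1
  refine List.ext_getElem (by simp [hr _ (List.getElem_mem _)]) fun m hm1 hm2 => ?_
  have hm : m < 24 := by simpa using hm1
  simp only [List.getElem_ofFn]
  rw [rowVec, map_sum, Finset.sum_eq_single ⟨m, hm⟩]
  · rw [map_zsmul, B.ortho, if_pos rfl, smul_eq_mul, mul_one, ent]
    have hn1 : n < N.length := by omega
    show ((N.getD n []).getD m 0) = _
    rw [List.getD_eq_getElem N [] hn1,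
      List.getD_eq_getElem _ _ (by rw [hr _ (List.getElem_mem hn1)]; omega)]
  · intro j _ hj
    rw [map_zsmul, B.ortho, if_neg (Ne.symm hj), smul_zero]
  · simp

theorem cols1_congr {g h : Co0} (e : g⁻¹ * h ∈ Subgroup.center Co0) : B.cols1 g = B.cols1 h := by
  have hh : h = g * (g⁻¹ * h) := (mul_inv_cancel_left _ _).symm
  rcases CfsgLib.MonsterType.center_co0_cases e with e1 | e1 <;> rw [hh, e1]
  · rw [mul_one]
  · rw [cols1_mul, cols1_neg, ← cols1_one, ← cols1_mul, mul_one]

/-- The codes of the first Conway group. -/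
def code1Quot : Co0 ⧸ Subgroup.center Co0 → List ℕ :=
  Quotient.lift B.cols1 fun _ _ e => B.cols1_congr (QuotientGroup.leftRel_apply.1 e)

theorem code1Quot_mk (g : Co0) : B.code1Quot (g : Co0 ⧸ Subgroup.center Co0) = B.cols1 g := rfl

/-- The group acting through codes. -/
def cod1 : Cod (Co0 ⧸ Subgroup.center Co0) where
  C := B.code1Quot
  Pt p := ∃ x, B.code1 x = p
  mul g h := by
    refine QuotientGroup.induction_on g fun a => ?_
    refine QuotientGroup.induction_on h fun b => ?_
    exact B.cols1_mul a b
  img_pt g p := by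
    refine QuotientGroup.induction_on g fun a => ?_
    rintro ⟨x, rfl⟩
    exact ⟨a • x, B.code1_smul a x⟩
  one_img p := by
    rintro ⟨x, rfl⟩
    show img (B.cols1 1) _ = _
    rw [B.cols1_one, B.code1_eq_img]

theorem cod1_C (g : Co0) : B.cod1.C (CfsgLib.Leech.ConwaySimple.mk1 g) = B.cols1 g := rfl

theorem cod1_injective : Function.Injective B.cod1.C := by
  intro g h
  refine QuotientGroup.induction_on g fun a => ?_
  refine QuotientGroup.induction_on h fun b => ?_
  intro e
  refine QuotientGroup.eq.2 (CfsgLib.MonsterType.mem_center_of_trivial_mod_two fun v => ?_)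
  refine B.congr_of_code1 ?_
  have e' : B.cols1 a = B.cols1 b := e
  rw [B.code1_smul, B.cols1_mul, ← e', ← B.cols1_mul, inv_mul_cancel, B.cols1_one, B.code1_eq_img]

/-- A class of a shortest vector is fixed by at most as many elements as the vector. -/
theorem card_stab_le {x : leechLattice} (hx : sqNorm (x : GolayPt → ℤ) = 32) :
    Nat.card (B.cod1.stab [B.code1 x]) ≤ Nat.card (MulAction.stabilizer Co0 x) := by
  have := finite_co0
  let f : MulAction.stabilizer Co0 x → B.cod1.stab [B.code1 x] := fun g =>
    ⟨CfsgLib.Leech.ConwaySimple.mk1 g.1, fun p hp _ => by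
      rw [List.mem_singleton] at hp
      subst hp
      rw [cod1_C, ← B.code1_smul, show g.1 • x = x from g.2]⟩
  refine Nat.card_le_card_of_surjective f fun ⟨h, hh⟩ => ?_
  obtain ⟨a, rfl⟩ := QuotientGroup.mk'_surjective _ h
  have h1 := hh (B.code1 x) (List.mem_singleton_self _) ⟨x, rfl⟩
  rw [cod1_C, ← B.code1_smul] at h1
  rcases CfsgLib.MonsterType.eq_or_neg_of_congr32 (B.congr_of_code1 h1)
    (by rw [sqNorm_smul_co, hx]) hx with e | e
  · exact ⟨⟨a, e⟩, rfl⟩
  · refine ⟨⟨CfsgLib.Leech.negAut * a, ?_⟩, ?_⟩
    · show (CfsgLib.Leech.negAut * a) • x = x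
      rw [mul_smul, e, CfsgLib.MonsterType.negAut_smul, neg_neg]
    · refine Subtype.ext ?_
      show CfsgLib.Leech.ConwaySimple.mk1 (CfsgLib.Leech.negAut * a) = _
      rw [map_mul, show CfsgLib.Leech.ConwaySimple.mk1 CfsgLib.Leech.negAut = 1 from
        (QuotientGroup.eq_one_iff _).2 CfsgLib.MonsterType.negAut_mem_center, one_mul]

end Basis

end CfsgLib.Rigid
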