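import Cfsg.Agent.Lib.Rigid.Out
import Cfsg.Agent.Lib.Leech.Cross
import Cfsg.Agent.Lib.Leech.Count

/-!
# Codes of lattice automorphisms fixing a basis vector
-/

set_option autoImplicit false

namespace CfsgLib.Rigid

open Cfsg CfsgLib.Golay CfsgLib.Leech CfsgLib.Leech.Count

/-- A list of entries as a coordinate vector. -/
def entFn (l : List ℤ) : GolayPt → ℤ := fun p => l.getD (ptEquiv p).val 0

/-- The test that a parity, a code word and entries describe a lattice vector. -/
noncomputable def vecTest (t : ℕ × ℕ × List ℤ) : Bool :=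
  decide (t.1 ≤ 1) && inCode t.2.1 &&
    ((List.range 24).all fun i => t.2.2.getD i 0 % 4 == (res t.1 (t.2.1.testBit i) : ℤ)) &&
    decide (t.2.2.length = 24) && decide (t.2.2.sum % 8 = 4 * (t.1 : ℤ))

theorem sum_entFn {l : List ℤ} (h : l.length = 24) : ∑ p, entFn l p = l.sum := by
  have e : l = List.ofFn fun i : Fin 24 => l.getD i.val 0 := by
    refine List.ext_getElem (by simp [h]) fun n h1 h2 => ?_
    simp only [List.getElem_ofFn]
    rw [List.getD_eq_getElem _ _ h1]
  conv_rhs => rw [e, List.sum_ofFn]
  exact Fintype.sum_equiv ptEquiv _ _ fun p => rfl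

theorem mem_of_vecTest {t : ℕ × ℕ × List ℤ} (h : vecTest t = true) : entFn t.2.2 ∈ leechLattice := by
  simp only [vecTest, Bool.and_eq_true, decide_eq_true_eq, List.all_eq_true, List.mem_range,
    beq_iff_eq] at h
  obtain ⟨⟨⟨⟨hm, hc⟩, hr⟩, hl⟩, hs⟩ := h
  refine even_iff.2 ⟨t.1, hm, _, mem_golayList_of_inCode hc, fun p => hr _ (ptEquiv p).isLt, ?_⟩
  rw [← Int.cast_sum, sum_entFn hl,
    show ((4 * t.1 : ℕ) : ZMod 8) = ((4 * (t.1 : ℤ) : ℤ) : ZMod 8) by push_cast; ring]
  exact (ZMod.intCast_eq_intCast_iff' _ _ 8).2 (by rw [show ((8 : ℕ) : ℤ) = 8 from rfl]; omega)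

/-- A lattice vector from a row of a table. -/
def latRow (T : List (ℕ × ℕ × List ℤ)) (h : T.all vecTest = true) (hl : T.length = 24) (i : Fin 24) :
    leechLattice :=
  ⟨entFn (T[i.val]'(by omega)).2.2, mem_of_vecTest (List.all_eq_true.1 h _ (List.getElem_mem _))⟩

/-- The sum of the products of two lists. -/
noncomputable def dotList (a b : List ℤ) : ℤ :=
  List.rec (fun _ => 0) (fun x _ r b => List.rec 0 (fun y b' _ => x * y + r b') b) a b

theorem dotList_cons (x y : ℤ) (a b : List ℤ) : dotList (x :: a) (y :: b) = x * y + dotList a b := rfl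

theorem dotList_ofFn : ∀ {n : ℕ} (f g : Fin n → ℤ),
    dotList (List.ofFn f) (List.ofFn g) = ∑ i, f i * g i := by
  intro n
  induction n with
  | zero => intro f g; simp [dotList]
  | succ n ih => intro f g; rw [List.ofFn_succ, List.ofFn_succ, dotList_cons, ih, Fin.sum_univ_succ]

theorem dotList_getD {n : ℕ} {a b : List ℤ} (ha : a.length = n) (hb : b.length = n) :
    dotList a b = ∑ i : Fin n, a.getD i.val 0 * b.getD i.val 0 := by
  have e : ∀ (l : List ℤ), l.length = n → l = List.ofFn fun i : Fin n => l.getD i.val 0 := by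
    intro l hl
    refine List.ext_getElem (by simp [hl]) fun k h1 h2 => ?_
    simp only [List.getElem_ofFn]
    rw [List.getD_eq_getElem _ _ h1]
  conv_lhs => rw [e a ha, e b hb]
  exact dotList_ofFn _ _

theorem innerL_entFn {v w : leechLattice} {a b : List ℤ} (hv : (v : GolayPt → ℤ) = entFn a)
    (hw : (w : GolayPt → ℤ) = entFn b) (ha : a.length = 24) (hb : b.length = 24) {z : ℤ}
    (hz : dotList a b = 8 * z) : innerL v w = z := by
  have h := eight_mul_inner v w
  rw [hv, hw, dotInt, dotList_getD ha hb] at *
  rw [Fintype.sum_equiv ptEquiv (fun p => entFn a p * entFn b p)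
    (fun i : Fin 24 => a.getD i.val 0 * b.getD i.val 0) (fun p => rfl)] at h
  omega

/-- A basis with its dual basis. -/
structure Basis where
  /-- The basis. -/
  e : Fin 24 → leechLattice
  /-- The dual basis. -/
  d : Fin 24 → leechLattice
  ortho : ∀ i j, innerL (d i) (e j) = if i = j then 1 else 0
  sep : ∀ p : GolayPt, ∃ a : Fin 24 → ℤ, ∀ q : GolayPt,
    (Pi.single p 8 : GolayPt → ℤ) q = ∑ i, a i * (d i : GolayPt → ℤ) q

namespace Basis

variable (B : Basis)

theorem expand (x : leechLattice) : x = ∑ j, innerL (B.d j) x • B.e j := by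
  set y := ∑ j, innerL (B.d j) x • B.e j with hy
  have hd : ∀ i, innerL (B.d i) y = innerL (B.d i) x := fun i => by
    rw [hy, map_sum, Finset.sum_eq_single i]
    · rw [map_zsmul, B.ortho, if_pos rfl, smul_eq_mul, mul_one]
    · intro j _ hj
      rw [map_zsmul, B.ortho, if_neg (Ne.symm hj), smul_zero]
    · exact fun h => absurd (Finset.mem_univ i) h
  refine Subtype.ext (funext fun p => ?_)
  obtain ⟨a, ha⟩ := B.sep p
  have hdot : ∀ i, dotInt (B.d i : GolayPt → ℤ) x = dotInt (B.d i : GolayPt → ℤ) y := fun i => by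
    rw [← eight_mul_inner, ← eight_mul_inner, hd]
  have key : ∀ z : GolayPt → ℤ, 8 * z p = ∑ i, a i * dotInt (B.d i : GolayPt → ℤ) z := fun z => by
    have : ∑ q, (Pi.single p 8 : GolayPt → ℤ) q * z q = 8 * z p := by
      rw [Finset.sum_eq_single p (fun q _ hq => by simp [Pi.single_eq_of_ne hq]) (by simp)]
      simp
    rw [← this]
    simp only [ha, dotInt, Finset.mul_sum, Finset.sum_mul, mul_assoc]
    exact Finset.sum_comm
  have h1 := key (x : GolayPt → ℤ)
  have h2 := key (y : GolayPt → ℤ)
  rw [Finset.sum_congr rfl fun i _ => by rw [← hdot i]] at h2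
  omega

/-- The parities of the coordinates after the first. -/
def code (x : leechLattice) : ℕ := pack (List.ofFn fun j : Fin 23 => innerL (B.d j.succ) x)

theorem code_add (x y : leechLattice) : B.code (x + y) = B.code x ^^^ B.code y := by
  rw [code, code, code, ← pack_add _ _ (by simp)]
  congr 1
  refine List.ext_getElem (by simp) fun n h1 h2 => ?_
  simp

theorem code_e0 : B.code (B.e 0) = 0 := by
  have : (List.ofFn fun j : Fin 23 => innerL (B.d j.succ) (B.e 0)) = List.replicate 23 0 := by
    refine List.ext_getElem (by simp) fun n h1 h2 => ?_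
    simp [B.ortho, Fin.succ_ne_zero]
  rw [code, this]
  decide

/-- The columns of the action of an automorphism. -/
def cols (g : Co0) : List ℕ := List.ofFn fun j : Fin 23 => B.code (g • B.e j.succ)

theorem code_smul {g : Co0} (hg : g • B.e 0 = B.e 0) (x : leechLattice) :
    B.code (g • x) = img (B.cols g) (B.code x) := by
  have hcode0 : B.code (0 : leechLattice) = 0 := by
    have := B.code_add 0 0
    simpa using this
  let F : leechLattice →+ leechLattice := AddMonoidHom.mk' (fun v => g • v) (smul_add' g)
  have hx : g • x = innerL (B.d 0) x • B.e 0 +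
      (List.zipWith (fun c e => c • e) (List.ofFn fun j : Fin 23 => innerL (B.d j.succ) x)
        (List.ofFn fun j : Fin 23 => g • B.e j.succ)).sum := by
    have e : List.zipWith (fun c e => c • e) (List.ofFn fun j : Fin 23 => innerL (B.d j.succ) x)
        (List.ofFn fun j : Fin 23 => g • B.e j.succ) =
        List.ofFn fun j : Fin 23 => innerL (B.d j.succ) x • (g • B.e j.succ) := by
      refine List.ext_getElem (by simp) fun n h1 h2 => ?_
      simp
    rw [e, List.sum_ofFn]
    show F x = _
    conv_lhs => rw [B.expand x, map_sum, Fin.sum_univ_succ]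
    simp only [map_zsmul]
    show innerL (B.d 0) x • (g • B.e 0) + _ = _
    rw [hg]
    rfl
  have hm : (List.ofFn fun j : Fin 23 => g • B.e j.succ).map B.code = B.cols g := by
    refine List.ext_getElem (by simp [cols]) fun n h1 h2 => ?_
    simp [cols]
  rw [hx, B.code_add, img_pack B.code B.code_add _ _ (by simp), hm]
  have h0 : B.code (innerL (B.d 0) x • B.e 0) = 0 := by
    have h := img_pack B.code B.code_add [innerL (B.d 0) x] [B.e 0] rfl
    simp only [List.zipWith_cons_cons, List.zipWith_nil_left, List.sum_cons, List.sum_nil, add_zero,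
      List.map_cons, List.map_nil, B.code_e0, img_cons, img_nil, mul_zero] at h
    rw [h]
    rfl
  rw [h0, Nat.zero_xor]
  rfl

/-- The code of the identity. -/
def oneCode : List ℕ := (List.range 23).map fun j => 2 ^ j

theorem cols_one : B.cols 1 = oneCode := by
  have key : ∀ j : Fin 23, pack (List.ofFn fun i : Fin 23 => if i = j then (1 : ℤ) else 0) = 2 ^ j.val := by
    decide +kernel
  refine List.ext_getElem (by simp [cols, oneCode]) fun n h1 h2 => ?_
  simp only [cols, oneCode, List.getElem_ofFn, List.getElem_map, List.getElem_range, one_smul]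
  refine Eq.trans ?_ (key ⟨n, by simpa [cols] using h1⟩)
  unfold code
  congr 2
  funext i
  rw [B.ortho]
  simp only [Fin.succ_inj]

theorem code_eq_img (x : leechLattice) : img oneCode (B.code x) = B.code x := by
  rw [← B.cols_one, ← B.code_smul (one_smul _ _), one_smul]

/-- A packed coefficient list is the code of a vector. -/
theorem exists_code {p : ℕ} (cs : List ℤ) (h : cs.length = 23) (hp : img oneCode (pack cs) = p) :
    ∃ x, B.code x = p := by
  refine ⟨(List.zipWith (fun c e => c • e) cs (List.ofFn fun j : Fin 23 => B.e j.succ)).sum, ?_⟩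
  rw [img_pack B.code B.code_add _ _ (by simp [h]), ← hp, ← B.cols_one]
  congr 1

/-- The group action through codes. -/
def cod (S : Subgroup Co0) (hS : ∀ g ∈ S, g • B.e 0 = B.e 0) : Cod S where
  C g := B.cols g.1
  Pt p := ∃ x, B.code x = p
  mul g h := by
    refine List.ext_getElem (by simp [cols, mulF]) fun n h1 h2 => ?_
    simp only [cols, mulF, List.getElem_ofFn, List.getElem_map, Subgroup.coe_mul, mul_smul]
    exact B.code_smul (hS g.1 g.2) _
  img_pt g p := by
    rintro ⟨x, rfl⟩
    exact ⟨g.1 • x, B.code_smul (hS g.1 g.2) x⟩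
  one_img p := by
    rintro ⟨x, rfl⟩
    rw [show ((1 : S).1 : Co0) = 1 from rfl, B.cols_one, B.code_eq_img]

/-- The entry of a matrix given by rows. -/
def ent (N : List (List ℤ)) (i j : Fin 24) : ℤ := (N.getD i.val []).getD j.val 0

/-- Whether two matrices multiply to a third, the second one given by its columns. -/
noncomputable def mulTest (N Mt R : List (List ℤ)) : Bool :=
  N.length == 24 && Mt.length == 24 && R.length == 24 && N.all (fun r => r.length == 24) &&
    Mt.all (fun r => r.length == 24) &&
    (List.range 24).all fun i => R.getD i [] == Mt.map fun col => dotList (N.getD i []) col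

theorem mulTest_spec {N Mt R : List (List ℤ)} (h : mulTest N Mt R = true) (i k : Fin 24) :
    ent R i k = ∑ j, ent N i j * ent Mt k j := by
  simp only [mulTest, Bool.and_eq_true, beq_iff_eq, List.all_eq_true, List.mem_range] at h
  obtain ⟨⟨⟨⟨⟨hN, hM⟩, -⟩, hNr⟩, hMr⟩, h⟩ := h
  have hi : i.val < N.length := hN.symm ▸ i.isLt
  have hk : k.val < Mt.length := hM.symm ▸ k.isLt
  unfold ent
  rw [h i.val i.isLt, List.getD_eq_getElem _ _ (by simpa using hk), List.getElem_map,
    ← List.getD_eq_getElem Mt [] hk]
  refine dotList_getD ?_ ?_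
  · rw [List.getD_eq_getElem _ _ hi]
    exact hNr _ (List.getElem_mem hi)
  · rw [List.getD_eq_getElem _ _ hk]
    exact hMr _ (List.getElem_mem hk)

/-- The matrix of a map on a vector. -/
def rowVec (N : List (List ℤ)) (j : Fin 24) : leechLattice := ∑ k, ent N j k • B.e k

/-- The linear map with given matrix. -/
def linMap (N : List (List ℤ)) : leechLattice →+ leechLattice :=
  AddMonoidHom.mk' (fun x => ∑ j, innerL (B.d j) x • B.rowVec N j) fun x y => by
    simp only [map_add, add_smul, Finset.sum_add_distrib]

theorem linMap_e (N : List (List ℤ)) (i : Fin 24) : B.linMap N (B.e i) = B.rowVec N i := by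
  show ∑ j, innerL (B.d j) (B.e i) • B.rowVec N j = _
  rw [Finset.sum_eq_single i (fun j _ hj => by rw [B.ortho, if_neg hj, zero_smul]) (by simp), B.ortho,
    if_pos rfl, one_smul]

theorem linMap_comp {N N' : List (List ℤ)}
    (h : ∀ i k, ∑ j, ent N i j * ent N' j k = if i = k then 1 else 0) (x : leechLattice) :
    B.linMap N' (B.linMap N x) = x := by
  conv_rhs => rw [B.expand x]
  show B.linMap N' (∑ j, innerL (B.d j) x • B.rowVec N j) = _
  rw [map_sum]
  refine Finset.sum_congr rfl fun i _ => ?_
  rw [map_zsmul, rowVec, map_sum]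
  congr 1
  simp only [map_zsmul, linMap_e, rowVec, Finset.smul_sum, smul_smul]
  rw [Finset.sum_comm]
  simp only [← Finset.sum_smul, h]
  rw [Finset.sum_eq_single i (fun k _ hk => by rw [if_neg (Ne.symm hk), zero_smul]) (by simp), if_pos rfl,
    one_smul]

/-- The transpose. -/
def transp (N : List (List ℤ)) : List (List ℤ) :=
  List.ofFn fun j : Fin 24 => List.ofFn fun i : Fin 24 => ent N i j

theorem ent_transp (N : List (List ℤ)) (i j : Fin 24) : ent (transp N) i j = ent N j i := by
  have hi : i.val < (transp N).length := by simp [transp]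
  conv_lhs => rw [ent, List.getD_eq_getElem _ _ hi]
  simp only [transp, List.getElem_ofFn]
  rw [List.getD_eq_getElem _ _ (by simp), List.getElem_ofFn]

/-- The table of the identity matrix. -/
def idMat : List (List ℤ) := List.ofFn fun i : Fin 24 => List.ofFn fun j : Fin 24 => if i = j then 1 else 0

theorem ent_idMat (i j : Fin 24) : ent idMat i j = if i = j then 1 else 0 := by
  have hi : i.val < idMat.length := by simp [idMat]
  conv_lhs => rw [ent, List.getD_eq_getElem _ _ hi]
  simp only [idMat, List.getElem_ofFn]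
  rw [List.getD_eq_getElem _ _ (by simp), List.getElem_ofFn]

/-- The checks of a matrix of an automorphism. -/
noncomputable def autTest (G N N' NG : List (List ℤ)) : Bool :=
  mulTest N (transp G) NG && mulTest NG N G && mulTest N (transp N') idMat && mulTest N' (transp N) idMat

theorem exists_aut {G N N' NG : List (List ℤ)} (hG : ∀ i j, innerL (B.e i) (B.e j) = ent G i j)
    (h : autTest G N N' NG = true) : ∃ g : Co0, ∀ x, g • x = B.linMap N x := by
  simp only [autTest, Bool.and_eq_true] at h
  obtain ⟨⟨⟨h1, h2⟩, h3⟩, h4⟩ := h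
  have e3 : ∀ i k, ∑ j, ent N i j * ent N' j k = if i = k then 1 else 0 := fun i k => by
    rw [← ent_idMat, mulTest_spec h3]
    exact Finset.sum_congr rfl fun j _ => by rw [ent_transp]
  have e4 : ∀ i k, ∑ j, ent N' i j * ent N j k = if i = k then 1 else 0 := fun i k => by
    rw [← ent_idMat, mulTest_spec h4]
    exact Finset.sum_congr rfl fun j _ => by rw [ent_transp]
  have hrow : ∀ i k, innerL (B.rowVec N i) (B.rowVec N k) = innerL (B.e i) (B.e k) := fun i k => by
    rw [hG, mulTest_spec h2]
    simp only [rowVec, map_sum, map_zsmul, AddMonoidHom.finsetSum_apply, AddMonoidHom.zsmul_apply, hG,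
      smul_eq_mul, mulTest_spec h1, ent_transp, Finset.mul_sum, Finset.sum_mul]
    refine Finset.sum_congr rfl fun j _ => Finset.sum_congr rfl fun l _ => ?_
    ring
  have hin : ∀ x, innerL (B.linMap N x) (B.linMap N x) = innerL x x := fun x => by
    conv_rhs => rw [B.expand x]
    show innerL (∑ j, innerL (B.d j) x • B.rowVec N j) (∑ j, innerL (B.d j) x • B.rowVec N j) = _
    simp only [map_sum, map_zsmul, AddMonoidHom.finsetSum_apply, AddMonoidHom.zsmul_apply, hrow]
  let E : Equiv.Perm leechLattice :=
    ⟨B.linMap N, B.linMap N', B.linMap_comp e3, B.linMap_comp e4⟩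
  refine ⟨⟨E, fun v w => map_add (B.linMap N) v w, fun v => ?_⟩, fun x => rfl⟩
  show sqNorm ((B.linMap N v : leechLattice) : GolayPt → ℤ) = _
  rw [← eight_mul_inner_self, ← eight_mul_inner_self, hin]

/-- The code of a matrix. -/
def matCode (N : List (List ℤ)) : List ℕ := (N.tail).map fun r => pack r.tail

theorem cols_of_mat {g : Co0} {N : List (List ℤ)} (hg : ∀ x, g • x = B.linMap N x) (hl : N.length = 24)
    (hr : N.all (fun r => r.length == 24) = true) : B.cols g = matCode N := by
  simp only [List.all_eq_true, beq_iff_eq] at hr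
  refine List.ext_getElem (by simp [cols, matCode, hl]) fun n h1 h2 => ?_
  have hn : n < 23 := by simpa [cols] using h1
  simp only [cols, matCode, List.getElem_ofFn, List.getElem_map, List.getElem_tail]
  rw [hg, linMap_e, code]
  congr 1
  refine List.ext_getElem (by simp [hr _ (List.getElem_mem _)]) fun m hm1 hm2 => ?_
  have hm : m < 23 := by simpa using hm1
  simp only [List.getElem_ofFn, List.getElem_tail]
  rw [rowVec, map_sum, Finset.sum_eq_single (Fin.succ ⟨m, hm⟩)]
  · rw [map_zsmul, B.ortho, if_pos rfl, smul_eq_mul, mul_one, ent]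
    simp only [Fin.val_succ]
    have hn1 : n + 1 < N.length := by omega
    rw [List.getD_eq_getElem N [] hn1,
      List.getD_eq_getElem _ _ (by rw [hr _ (List.getElem_mem hn1)]; omega)]
  · intro j _ hj
    rw [map_zsmul, B.ortho, if_neg (Ne.symm hj), smul_zero]
  · simp

/-- A vector with known coordinates is moved to the vector with the transformed coordinates. -/
theorem smul_of_coords {g : Co0} {N : List (List ℤ)} (hg : ∀ x, g • x = B.linMap N x)
    {x y : leechLattice} (a b : List ℤ) (ha : ∀ j : Fin 24, innerL (B.d j) x = a.getD j.val 0)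
    (hb : ∀ j : Fin 24, innerL (B.d j) y = b.getD j.val 0)
    (h : ∀ k : Fin 24, ∑ j : Fin 24, a.getD j.val 0 * ent N j k = b.getD k.val 0) : g • x = y := by
  conv_rhs => rw [B.expand y]
  rw [hg]
  show ∑ j, innerL (B.d j) x • B.rowVec N j = _
  simp only [rowVec, Finset.smul_sum, smul_smul, ha]
  rw [Finset.sum_comm]
  simp only [← Finset.sum_smul, h, hb]

end Basis

end CfsgLib.Rigid
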