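import Cfsg.Agent.Lib.Rigid.Spor
import Cfsg.Agent.Lib.Leech.Pairs
import Cfsg.Agent.Lib.Leech.Configs

/-!
# An outer automorphism of the McLaughlin group

An isometry exchanging the two minimal vectors of the pair normalises their stabiliser. It is
not inner: an isometry commuting with the stabiliser sends a vector of the standard cross to one
that is constant on twenty-two coordinates, and no lattice vector does.
-/

set_option autoImplicit false
set_option maxRecDepth 20000

namespace CfsgLib.Rigid.McL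

open Cfsg CfsgLib.Golay CfsgLib.Leech

/-- The pair stabiliser. -/
def grp : Subgroup Co0 :=
  MulAction.stabilizer Co0 Spor.leechV ⊓ MulAction.stabilizer Co0 Spor.leechU

/-- The third vector of the triangle. -/
def vecW : leechLattice := -(Spor.leechV + Spor.leechU)

theorem dots : sqNorm (Spor.leechU : GolayPt → ℤ) = 32 ∧ sqNorm (vecW : GolayPt → ℤ) = 32 ∧
    dotInt (Spor.leechU : GolayPt → ℤ) (vecW : GolayPt → ℤ) = -8 ∧
    dotInt (vecW : GolayPt → ℤ) (Spor.leechU : GolayPt → ℤ) = -8 := by decide +kernel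

theorem exists_swap : ∃ g : Co0, g • Spor.leechV = Spor.leechV ∧ g • Spor.leechU = vecW ∧
    g • vecW = Spor.leechU := by
  obtain ⟨g, h1, h2⟩ := exists_map_pair (exists_pair8 dots.1 dots.2.1 dots.2.2.1)
    (exists_pair8 dots.2.1 dots.1 dots.2.2.2)
  refine ⟨g, ?_, h1, h2⟩
  have e : Spor.leechV = -(Spor.leechU + vecW) := by
    simp only [vecW, neg_add_rev, neg_neg]
    abel
  rw [e, smul_neg', smul_add', h1, h2, add_comm]

/-- Three permutations fixing two points and generating a transitive group on the others. -/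
def permTab : List (List ℕ) :=
  [[0, 2, 4, 6, 8, 10, 12, 14, 16, 18, 20, 22, 1, 3, 5, 7, 9, 11, 13, 15, 17, 19, 21, 23],
   [0, 18, 6, 3, 2, 21, 1, 5, 16, 12, 7, 19, 8, 9, 17, 15, 13, 11, 4, 22, 10, 20, 14, 23],
   [0, 10, 17, 14, 21, 6, 3, 16, 9, 7, 11, 18, 5, 12, 19, 22, 2, 20, 8, 4, 1, 15, 13, 23]]

/-- Points reached from the first one in boundedly many steps. -/
def grow : ℕ → List ℕ
  | 0 => [1]
  | n + 1 => (grow n ++ permTab.flatMap fun L => (grow n).map fun i => L.getD i 0).dedup

theorem perm_facts : (∀ L ∈ permTab, m24Test L = true ∧ validL 24 L = true) ∧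
    (∀ L ∈ permTab, L.getD 23 0 = 23 ∧ L.getD 0 0 = 0) ∧
    (∀ q : GolayPt, (ptEquiv q).val = 23 ↔ q = none) ∧ (∀ q : GolayPt, (ptEquiv q).val = 0 ↔ q = some 0) ∧
    (∀ q : GolayPt, q ≠ none → q ≠ some 0 → (ptEquiv q).val ∈ grow 12) := by
  refine ⟨?_, ?_, ?_, ?_, ?_⟩ <;> decide +kernel

theorem val_pt (L : List ℕ) (hL : validL 24 L = true) (i : ℕ) (hi : i < 24) :
    permOf ptEquiv L (pt i) = pt (L.getD i 0) := by
  refine ptEquiv.injective (Fin.ext ?_)
  rw [permOf_apply ptEquiv hL, ptEquiv_pt hi, ptEquiv_pt (validL_getD_lt hL hi)]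

theorem perm_fix {L : List ℕ} (hL : L ∈ permTab) (q : GolayPt) :
    (permOf ptEquiv L q = none ↔ q = none) ∧ (permOf ptEquiv L q = some 0 ↔ q = some 0) := by
  obtain ⟨h1, h2, h3, h4, -⟩ := perm_facts
  have hv := (h1 L hL).2
  obtain ⟨e23, e0⟩ := h2 L hL
  have hn : permOf ptEquiv L none = none := by
    rw [← h3, permOf_apply ptEquiv hv, (h3 none).2 rfl, e23]
  have hz : permOf ptEquiv L (some 0) = some 0 := by
    rw [← h4, permOf_apply ptEquiv hv, (h4 (some 0)).2 rfl, e0]
  refine ⟨?_, ?_⟩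
  · conv_lhs => rw [← hn]
    exact (permOf ptEquiv L).injective.eq_iff
  · conv_lhs => rw [← hz]
    exact (permOf ptEquiv L).injective.eq_iff

/-- The automorphism of a permutation in the table. -/
noncomputable def tabAut (L : List ℕ) (hL : L ∈ permTab) : Co0 :=
  permAut (permOf ptEquiv L) (mem_M24_of_test (perm_facts.1 L hL).1)

theorem tabAut_fix (L : List ℕ) (hL : L ∈ permTab) {x : leechLattice}
    (hx : ∀ p q : GolayPt, (p = none ↔ q = none) → (p = some 0 ↔ q = some 0) →
      (x : GolayPt → ℤ) p = (x : GolayPt → ℤ) q) : tabAut L hL • x = x := by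
  refine Subtype.ext (funext fun q => ?_)
  rw [tabAut, coe_permAut_smul]
  show (x : GolayPt → ℤ) ((permOf ptEquiv L).symm q) = _
  have h := perm_fix hL ((permOf ptEquiv L).symm q)
  rw [Equiv.apply_symm_apply] at h
  exact hx _ _ h.1.symm h.2.symm

theorem tabAut_mem (L : List ℕ) (hL : L ∈ permTab) : tabAut L hL ∈ grp := by
  refine Subgroup.mem_inf.2 ⟨tabAut_fix L hL fun p q h1 h2 => ?_, tabAut_fix L hL fun p q h1 h2 => ?_⟩
  · show Spor.vecV p = Spor.vecV q
    simp only [Spor.vecV, h1]
  · show Spor.vecU p = Spor.vecU q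
    simp only [Spor.vecU, h1, h2]

theorem sum_two {a : GolayPt → ℤ} {e : ℤ} (he : ∀ q, q ≠ none → q ≠ some 0 → a q = e) :
    ∑ q, a q = a none + a (some 0) + 22 * e := by
  classical
  rw [← Finset.add_sum_erase _ _ (Finset.mem_univ (none : GolayPt)),
    ← Finset.add_sum_erase _ _ (show (some 0 : GolayPt) ∈ (Finset.univ : Finset GolayPt).erase none from
      Finset.mem_erase.2 ⟨Option.some_ne_none _, Finset.mem_univ _⟩),
    Finset.sum_congr rfl (fun q hq => he q (Finset.mem_erase.1 (Finset.mem_erase.1 hq).2).1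
      (Finset.mem_erase.1 hq).1), Finset.sum_const, Finset.card_erase_of_mem (Finset.mem_erase.2
      ⟨Option.some_ne_none _, Finset.mem_univ _⟩), Finset.card_erase_of_mem (Finset.mem_univ _),
    Finset.card_univ, card_golayPt]
  simp
  ring

theorem no_solution (a b e : ℤ) (d1 : -5 * a + -1 * b + 22 * -e = 8 * -5)
    (d2 : 1 * a + -3 * b + 22 * e = 8 * 4) (hn : a ^ 2 + b ^ 2 + 22 * e ^ 2 = 64) : False := by
  have he1 : e ≤ 1 := by nlinarith [sq_nonneg a, sq_nonneg b]
  have he2 : -1 ≤ e := by nlinarith [sq_nonneg a, sq_nonneg b]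
  have hb : b = 2 - a := by linarith
  subst hb
  interval_cases e
  · have : a = 15 := by linarith
    subst this
    norm_num at hn
  · omega
  · have : a = 4 := by linarith
    subst this
    norm_num at hn

theorem two_le_out : 2 ≤ Nat.card (Cfsg.Out grp) := by
  have := finite_co0
  obtain ⟨g, gV, gU, gW⟩ := exists_swap
  have hnorm : ∀ h ∈ grp, g * h * g⁻¹ ∈ grp := by
    intro h hh
    obtain ⟨hV, hU⟩ := Subgroup.mem_inf.1 hh
    have hW : h • vecW = vecW := by
      rw [vecW, smul_neg', smul_add', show h • Spor.leechV = _ from hV, show h • Spor.leechU = _ from hU]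
    have iV : g⁻¹ • Spor.leechV = Spor.leechV := inv_smul_eq_iff.2 gV.symm
    have iU : g⁻¹ • Spor.leechU = vecW := inv_smul_eq_iff.2 gW.symm
    refine Subgroup.mem_inf.2 ⟨?_, ?_⟩
    · show (g * h * g⁻¹) • Spor.leechV = _
      rw [mul_smul, mul_smul, iV, show h • Spor.leechV = _ from hV, gV]
    · show (g * h * g⁻¹) • Spor.leechU = _
      rw [mul_smul, mul_smul, iU, hW, gW]
  have hg : g ∈ Subgroup.normalizer (grp : Set Co0) := by
    refine Subgroup.mem_normalizer_fintype fun h hh => ?_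
    exact hnorm h hh
  refine CfsgLib.MathieuOut.two_le_card_out (grp.normalizerMonoidHom ⟨g, hg⟩) fun m hm => ?_
  set c : Co0 := m.1⁻¹ * g with hc
  have hcomm : ∀ h ∈ grp, c * h = h * c := by
    intro h hh
    have e : m.1 * h * m.1⁻¹ = g * h * g⁻¹ := by
      have e0 := congrArg Subtype.val (DFunLike.congr_fun hm ⟨h, hh⟩)
      simpa [MulAut.conj_apply] using e0
    have e2 : m.1 * h * m.1⁻¹ * g = g * h := by rw [e, inv_mul_cancel_right]
    calc c * h = m.1⁻¹ * (g * h) := by rw [hc, mul_assoc]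
      _ = h * c := by rw [← e2, hc]; group
  obtain ⟨mV, mU⟩ := Subgroup.mem_inf.1 m.2
  have mW : m.1 • vecW = vecW := by
    rw [vecW, smul_neg', smul_add', show m.1 • Spor.leechV = _ from mV,
      show m.1 • Spor.leechU = _ from mU]
  have cV : c • Spor.leechV = Spor.leechV := by
    rw [hc, mul_smul, gV]; exact inv_smul_eq_iff.2 (show m.1 • Spor.leechV = _ from mV).symm
  have cU : c • Spor.leechU = vecW := by
    rw [hc, mul_smul, gU]; exact inv_smul_eq_iff.2 mW.symm
  have cW : c • vecW = Spor.leechU := by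
    rw [hc, mul_smul, gW]; exact inv_smul_eq_iff.2 (show m.1 • Spor.leechU = _ from mU).symm
  set y : GolayPt → ℤ := ((c • axisVec none 8 dvd_rfl : leechLattice) : GolayPt → ℤ) with hy
  have hinv : ∀ L, ∀ hL : L ∈ permTab, ∀ q, y (permOf ptEquiv L q) = y q := by
    intro L hL q
    have hz : tabAut L hL • axisVec none 8 dvd_rfl = axisVec none 8 dvd_rfl :=
      tabAut_fix L hL fun p q h1 _ => by
        simp only [coe_axisVec, Pi.single_apply, h1]
    have he : tabAut L hL • (c • axisVec none 8 dvd_rfl) = c • axisVec none 8 dvd_rfl := by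
      rw [← mul_smul, ← hcomm _ (tabAut_mem L hL), mul_smul, hz]
    have h2 : permCoord (permOf ptEquiv L) y = y := by
      rw [hy]
      exact (coe_permAut_smul _ _ _).symm.trans (congrArg Subtype.val he)
    have h3 := congrFun h2 (permOf ptEquiv L q)
    simp only [permCoord] at h3
    simpa using h3.symm
  have hgrow : ∀ n, ∀ i ∈ grow n, i < 24 ∧ y (pt i) = y (pt 1) := by
    intro n
    induction n with
    | zero => intro i hi; simp [grow] at hi; subst hi; exact ⟨by norm_num, rfl⟩
    | succ n ih =>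
      intro i hi
      simp only [grow, List.mem_dedup, List.mem_append, List.mem_flatMap, List.mem_map] at hi
      rcases hi with hi | ⟨L, hL, j, hj, rfl⟩
      · exact ih i hi
      obtain ⟨hj1, hj2⟩ := ih j hj
      have hv := (perm_facts.1 L hL).2
      exact ⟨validL_getD_lt hv hj1, by rw [← val_pt L hv j hj1, hinv L hL, hj2]⟩
  have hconst : ∀ q, q ≠ none → q ≠ some 0 → y q = y (pt 1) := fun q h1 h2 => by
    have h := (hgrow 12 _ (perm_facts.2.2.2.2 q h1 h2)).2
    rwa [pt_ptEquiv] at h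
  have hdot : ∀ x : leechLattice, dotInt ((c • x : leechLattice) : GolayPt → ℤ) y =
      8 * (x : GolayPt → ℤ) none := fun x => by
    rw [hy, dot_smul_co, dotInt, coe_axisVec, Finset.sum_eq_single (none : GolayPt)
      (fun q _ hq => by rw [Pi.single_eq_of_ne hq, mul_zero]) (by simp), Pi.single_eq_same]
    ring
  have hn : sqNorm y = 64 := by
    rw [hy, sqNorm_smul_co, coe_axisVec, sqNorm_single]; norm_num
  have d1 := hdot Spor.leechV
  rw [cV] at d1
  have d2 := hdot Spor.leechU
  rw [cU] at d2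
  set a := y none
  set b := y (some 0)
  set e := y (pt 1)
  have hWv : ∀ q, (vecW : GolayPt → ℤ) q = if q = none then 1 else if q = some 0 then -3 else 1 := by
    decide +kernel
  have hVn : (Spor.leechV : GolayPt → ℤ) none = -5 ∧ (Spor.leechU : GolayPt → ℤ) none = 4 := by
    decide +kernel
  rw [hVn.1, dotInt, sum_two (e := -e) fun q h1 h2 => by
    rw [show (Spor.leechV : GolayPt → ℤ) q = -1 from if_neg h1, hconst q h1 h2]; ring] at d1
  rw [hVn.2, dotInt, sum_two (e := e) fun q h1 h2 => by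
    rw [hWv, if_neg h1, if_neg h2, hconst q h1 h2, one_mul]] at d2
  rw [sqNorm, sum_two (e := e ^ 2) fun q h1 h2 => by rw [hconst q h1 h2]] at hn
  have hv : (Spor.leechV : GolayPt → ℤ) none = -5 ∧ (Spor.leechV : GolayPt → ℤ) (some 0) = -1 ∧
      (vecW : GolayPt → ℤ) none = 1 ∧ (vecW : GolayPt → ℤ) (some 0) = -3 := by decide +kernel
  rw [hv.1, hv.2.1] at d1
  rw [hv.2.2.1, hv.2.2.2] at d2
  change -5 * a + -1 * b + 22 * -e = 8 * -5 at d1
  change 1 * a + -3 * b + 22 * e = 8 * 4 at d2
  change a ^ 2 + b ^ 2 + 22 * e ^ 2 = 64 at hn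
  exact no_solution a b e d1 d2 hn

end CfsgLib.Rigid.McL
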