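import Cfsg.Agent.Lib.Rigid.Spor
import Cfsg.Agent.Lib.Rigid.McLCheck
import Cfsg.Agent.Lib.Rigid.McLOuter
import Cfsg.Agent.Lib.Fusion.McLSimple.Main

/-!
# The outer automorphism group of the McLaughlin group has order two
-/

set_option autoImplicit false
set_option maxRecDepth 20000

namespace CfsgLib.Rigid.McL

open Cfsg CfsgLib.Leech CfsgLib.Rigid

/-- The basis. -/
noncomputable def basis : Basis := mkBasis tabE tabD gram table_ok

theorem e0_eq : basis.e 0 = Spor.leechV := by
  refine Subtype.ext (funext fun p => ?_)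
  revert p
  show ∀ p, entFn (tabE[0]'(by decide)).2.2 p = Spor.vecV p
  decide +kernel

theorem grp_fix : ∀ g ∈ grp, g • basis.e 0 = basis.e 0 := fun g hg => by
  rw [e0_eq]
  exact (Subgroup.mem_inf.1 hg).1

/-- The coordinates of the second fixed vector. -/
def uuCoef : List ℤ :=
  [-4, -2, -2, -2, -2, -2, -2, -2, -2, -2, -2, -2, -9, -6, -5, 2, -1, -9, -5, 2, -12, -2, -9, -7]

theorem uu_coords : ∀ j : Fin 24, innerL (basis.d j) Spor.leechU = uuCoef.getD j.val 0 := by
  decide +kernel

theorem uu_fixed : ∀ k : Fin 24, (∑ j : Fin 24, uuCoef.getD j.val 0 * Basis.ent matU j k = uuCoef.getD k.val 0) ∧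
    (∑ j : Fin 24, uuCoef.getD j.val 0 * Basis.ent matV j k = uuCoef.getD k.val 0) ∧
    (∑ j : Fin 24, uuCoef.getD j.val 0 * Basis.ent matW j k = uuCoef.getD k.val 0) := by
  decide +kernel

/-- The Prelude's group is the pair stabiliser. -/
def sporEquiv : Spor.McL ≃* grp where
  toFun g := ⟨⟨g.1, g.2.1.1⟩, g.2.1.2, g.2.2⟩
  invFun g := ⟨g.1.1, ⟨g.1.2, g.2.1⟩, g.2.2⟩
  left_inv _ := rfl
  right_inv _ := rfl
  map_mul' _ _ := rfl

theorem ent_row : ∀ k : Fin 24, Basis.ent matU 0 k = (if 0 = k then 1 else 0) ∧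
    Basis.ent matV 0 k = (if 0 = k then 1 else 0) ∧ Basis.ent matW 0 k = (if 0 = k then 1 else 0) := by
  decide +kernel

theorem card_grp : Nat.card grp = 898128000 :=
  (Nat.card_congr sporEquiv.toEquiv).symm.trans CfsgLib.Fusion.McLSimple.card_McL

theorem prod_ok : Cod.prodLen (data.levels.map fun L => (L.b, L.pts)) = 898128000 := by decide +kernel

theorem base_ok : baseTest baseCoef data.levels = true := by decide +kernel

theorem exists_gen {N N' NG : List (List ℤ)} (h : Basis.autTest gram N N' NG = true)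
    (h0 : ∀ k : Fin 24, Basis.ent N 0 k = if 0 = k then 1 else 0)
    (hu : ∀ k : Fin 24, ∑ j : Fin 24, uuCoef.getD j.val 0 * Basis.ent N j k = uuCoef.getD k.val 0) :
    ∃ g : grp, basis.cols g.1 = Basis.matCode N := by
  obtain ⟨g, hg, hc⟩ := exists_mem_of_mat basis (mkBasis_gram table_ok) h
  refine ⟨⟨g, Subgroup.mem_inf.2 ⟨?_, ?_⟩⟩, hc⟩
  · show g • Spor.leechV = Spor.leechV
    rw [← e0_eq]
    exact smul_e0 basis hg h0
  · exact basis.smul_of_coords hg uuCoef uuCoef uu_coords uu_coords hu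

theorem card_out_grp : Nat.card (Cfsg.Out grp) = 2 := by
  have := finite_co0
  have : Fact data.p.Prime := ⟨show Nat.Prime 11 by norm_num⟩
  obtain ⟨U, hU⟩ := exists_gen autU_ok (fun k => (ent_row k).1) fun k => (uu_fixed k).1
  obtain ⟨V, hV⟩ := exists_gen autV_ok (fun k => (ent_row k).2.1) fun k => (uu_fixed k).2.1
  obtain ⟨W, hW⟩ := exists_gen autW_ok (fun k => (ent_row k).2.2) fun k => (uu_fixed k).2.2
  obtain ⟨cu, cv, cw, c1⟩ := code_ok
  simp only [eqL_iff] at cu cv cw c1
  let c := basis.cod grp grp_fix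
  have h1 : c.C 1 = data.one := by
    show basis.cols ((1 : grp) : Co0) = _
    rw [show ((1 : grp) : Co0) = 1 from rfl, basis.cols_one, c1]
  have hlev : c.Levels data.one data.known [] data.levels := by
    refine levels_of_checks basis grp grp_fix _ _ _ baseCoef [] base_ok ?_
    intro i hi
    have hi' : i < 5 := hi
    interval_cases i
    exacts [level0_ok, level1_ok, level2_ok, level3_ok, level4_ok]
  refine le_antisymm ((out_le c data h1 (hU.trans cu) (hV.trans cv) (hW.trans cw) ops_ok hlev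
    (by rw [prod_ok, card_grp]) (by rw [card_grp]; show ¬ 11 ^ 2 ∣ 898128000; norm_num) small_ok sep_ok
    rfl rfl cu_ok cv_ok searchU_ok searchV_ok).trans_eq rfl) ?_
  exact two_le_out

end CfsgLib.Rigid.McL
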