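import Cfsg.Agent.Lib.Rigid.Search
import Cfsg.Agent.Lib.MathieuOut.Abstract

/-!
# The outer automorphism group from a certificate
-/

set_option autoImplicit false

namespace CfsgLib.Rigid

/-- The power of a code. -/
noncomputable def powC (one A : List ℕ) : ℕ → List ℕ
  | 0 => one
  | n + 1 => mulF (powC one A n) A

/-- The code of a word in three letters. -/
noncomputable def evalC (one u v w : List ℕ) : List (ℕ × ℕ) → List ℕ
  | [] => one
  | (i, e) :: rest => mulF (powC one (match i with | 0 => u | 1 => v | _ => w) e) (evalC one u v w rest)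

/-- The value of a word in three letters. -/
def evalG {G : Type*} [Monoid G] (u v w : G) : List (ℕ × ℕ) → G
  | [] => 1
  | (i, e) :: rest => (match i with | 0 => u | 1 => v | _ => w) ^ e * evalG u v w rest

theorem map_evalG {G H : Type*} [Monoid G] [Monoid H] (f : G →* H) (u v w : G) :
    ∀ l : List (ℕ × ℕ), f (evalG u v w l) = evalG (f u) (f v) (f w) l := by
  intro l
  induction l with
  | nil => simp [evalG]
  | cons p l ih =>
    obtain ⟨i, e⟩ := p
    simp only [evalG, map_mul, map_pow, ih]
    congr 2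
    split <;> rfl

namespace Cod

variable {G : Type*} [Group G] (c : Cod G)

theorem C_pow {one : List ℕ} (h1 : c.C 1 = one) (g : G) :
    ∀ n : ℕ, c.C (g ^ n) = powC one (c.C g) n := by
  intro n
  induction n with
  | zero => rw [pow_zero, h1]; rfl
  | succ n ih => rw [pow_succ, c.mul, ih]; rfl

theorem C_evalG {one : List ℕ} (h1 : c.C 1 = one) (u v w : G) :
    ∀ l : List (ℕ × ℕ), c.C (evalG u v w l) = evalC one (c.C u) (c.C v) (c.C w) l := by
  intro l
  induction l with
  | nil => simp only [evalG, evalC, h1]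
  | cons p l ih =>
    obtain ⟨i, e⟩ := p
    simp only [evalG, evalC, c.mul, c.C_pow h1, ih]
    congr 2
    split <;> rfl

end Cod

/-- All data of a certificate. -/
structure Data where
  /-- The code of the identity. -/
  one : List ℕ
  /-- The code of the element of prime order. -/
  u : List ℕ
  /-- The code of the element normalising it. -/
  v : List ℕ
  /-- The code of the third generator. -/
  w : List ℕ
  /-- The straight-line program. -/
  ops : List Op
  /-- The levels. -/
  levels : List Level
  /-- The prime. -/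
  p : ℕ
  /-- The exponent of the action on the first element. -/
  r : ℕ
  /-- The exponent of the action of the third generator. -/
  s : ℕ
  /-- The order of the second element. -/
  ov : ℕ
  /-- The order of the third generator. -/
  ow : ℕ
  /-- Equations for the first search. -/
  cu : List (Option Cons × Bool)
  /-- Equations for the second search. -/
  cv : List (Option Cons × Bool)
  /-- Representatives of the exponents. -/
  K : List ℕ
  /-- The separating words. -/
  words : List (List (ℕ × ℕ))
  /-- The remaining possibilities. -/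
  valid : List (ℕ × ℕ × ℕ)

/-- The codes known from the program. -/
def Data.known (D : Data) : List (List ℕ) := [D.u, D.v, D.w] ++ D.ops.map Op.M

/-- The levels of a search. -/
def Data.slevs (D : Data) (cs : List (Option Cons × Bool)) : List SLev :=
  List.zipWith (fun L k => ⟨L.b, L.pts, optsM L.b D.one L.tm, k.1, k.2⟩) D.levels cs

/-- The check of the equations of a search. -/
noncomputable def Data.consCheck (D : Data) (A B : List ℕ) (cs : List (Option Cons × Bool)) : Bool :=
  cs.all fun k => match k.1 with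
    | none => true
    | some k => eqL (powC D.one A k.k) k.A && eqL (powC D.one B k.k) k.B

/-- The elements of the solution set of the second equation, as exponents. -/
def Data.wIdx (D : Data) : List (ℕ × ℕ) :=
  (List.range D.ov).flatMap fun i => (List.range D.ow).map fun j => (i, j)

/-- The code of such an element. -/
noncomputable def Data.wCode (D : Data) (ij : ℕ × ℕ) : List ℕ :=
  mulF (powC D.one D.v ij.1) (powC D.one D.w ij.2)

/-- A word that separates a possibility from the generators. -/
noncomputable def Data.separated (D : Data) (k : ℕ) (ij : ℕ × ℕ) : Bool :=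
  D.words.any fun l => !(eqL (evalC D.one (powC D.one D.u k) D.v (D.wCode ij) l) D.one)

/-- The check of the small facts. -/
noncomputable def Data.smallOk (D : Data) : Bool :=
  eqL (powC D.one D.u D.p) D.one && !(eqL D.u D.one) &&
  eqL (mulF D.v D.u) (mulF (powC D.one D.u D.r) D.v) &&
  eqL (mulF D.w D.v) (mulF (powC D.one D.v D.s) D.w) &&
  eqL (powC D.one D.v D.ov) D.one && decide (0 < D.ov) &&
  ((List.range D.p).all fun m => (List.range D.p).any fun a =>
    decide ((a + m) % D.p = (D.r * a) % D.p)) &&
  ((List.range D.p).all fun k => Nat.beq k 0 || (List.range D.ov).any fun l =>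
    D.K.any fun k' => decide ((k * D.r ^ l) % D.p = k' % D.p)) &&
  D.words.all (fun l => eqL (evalC D.one D.u D.v D.w l) D.one)

/-- The check of the possibilities. -/
noncomputable def Data.sepOk (D : Data) : Bool :=
  D.K.all fun k => D.wIdx.all fun ij => D.valid.elem (k, ij) || D.separated k ij

/-- The allowed codes of the first search. -/
noncomputable def Data.uPows (D : Data) : List (List ℕ) :=
  (List.range D.p).map fun i => powC D.one D.u i

/-- The allowed codes of the second search. -/
noncomputable def Data.wCodes (D : Data) : List (List ℕ) := D.wIdx.map D.wCode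

/-- The first search. -/
noncomputable def Data.searchU (D : Data) : Bool :=
  srch D.u D.u D.p D.uPows (D.slevs D.cu) [] D.one

/-- The second search. -/
noncomputable def Data.searchV (D : Data) : Bool :=
  srch D.v (powC D.one D.v D.s) D.ov D.wCodes (D.slevs D.cv) [] D.one

variable {G : Type*} [Group G] [Finite G] (c : Cod G) (D : Data)

omit [Finite G] in
theorem full_slevs : ∀ (Ls : List Level) (cs : List (Option Cons × Bool)) (l : List ℕ),
    cs.length = Ls.length → c.Full l (Ls.map fun L => (L.b, L.pts)) →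
    c.Full l ((List.zipWith (fun L k => (⟨L.b, L.pts, optsM L.b D.one L.tm, k.1, k.2⟩ : SLev))
      Ls cs).map fun L => (L.b, L.pts)) := by
  intro Ls
  induction Ls with
  | nil => intro cs l _ h; simpa using h
  | cons L Ls ih =>
    intro cs l hl h
    match cs, hl with
    | k :: cs, hl => exact ⟨h.1, ih cs _ (by simpa using hl) h.2⟩

omit [Finite G] in
theorem allOpts_slevs {K : Subgroup G} {one : List ℕ} (h1 : c.C 1 = one) {known : List (List ℕ)}
    (hk : ∀ M ∈ known, c.Mem K M) : ∀ (Ls : List Level) (cs : List (Option Cons × Bool)) (l : List ℕ),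
    c.Levels one known l Ls → c.AllOpts l
      (List.zipWith (fun L k => (⟨L.b, L.pts, optsM L.b one L.tm, k.1, k.2⟩ : SLev)) Ls cs) := by
  intro Ls
  induction Ls with
  | nil => intro cs l _; simp [Cod.AllOpts]
  | cons L Ls ih =>
    intro cs l h
    match cs with
    | [] => simp [Cod.AllOpts]
    | k :: cs => exact ⟨(c.level_sound h1 hk h.2.1).2.2, h.1, ih cs _ h.2.2⟩

omit [Finite G] in
theorem consOK_slevs {a b : G} (h1 : c.C 1 = D.one) (cs : List (Option Cons × Bool))
    (h : D.consCheck (c.C a) (c.C b) cs = true) : c.ConsOK a b (D.slevs cs) := by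
  intro L hL k hk
  simp only [Data.slevs] at hL
  obtain ⟨i, hi, rfl⟩ := List.getElem_of_mem hL
  simp only [List.getElem_zipWith] at hk
  have hi' : i < cs.length := by simp at hi; omega
  simp only [Data.consCheck, List.all_eq_true] at h
  have := h _ (List.getElem_mem hi')
  rw [hk] at this
  simp only [Bool.and_eq_true, eqL_iff] at this
  rw [c.C_pow h1, c.C_pow h1]
  exact this

set_option maxHeartbeats 400000 in
/-- The bound. -/
theorem out_le [Fact D.p.Prime] {U V W : G} (h1 : c.C 1 = D.one) (hu : c.C U = D.u)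
    (hv : c.C V = D.v) (hw : c.C W = D.w)
    (hops : slpOk D.one D.ops [D.u, D.v, D.w] = true)
    (hlev : c.Levels D.one D.known [] D.levels)
    (hcard : Nat.card G = Cod.prodLen (D.levels.map fun L => (L.b, L.pts)))
    (hsq : ¬ D.p ^ 2 ∣ Nat.card G) (hsmall : D.smallOk = true) (hsep : D.sepOk = true)
    (hlu : D.cu.length = D.levels.length) (hlv : D.cv.length = D.levels.length)
    (hcu : D.consCheck D.u D.u D.cu = true)
    (hcv : D.consCheck D.v (powC D.one D.v D.s) D.cv = true)
    (hsu : D.searchU = true) (hsv : D.searchV = true) :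
    Nat.card (Cfsg.Out G) ≤ D.valid.length := by
  set K : Subgroup G := Subgroup.closure {x | x ∈ [U, V, W]} with hK
  have hbase : ∀ M ∈ [D.u, D.v, D.w], c.Mem K M := by
    intro M hM
    rcases List.mem_cons.1 hM with rfl | hM
    · exact ⟨U, Subgroup.subset_closure (List.mem_cons_self ..), hu⟩
    rcases List.mem_cons.1 hM with rfl | hM
    · exact ⟨V, Subgroup.subset_closure (List.mem_cons_of_mem _ (List.mem_cons_self ..)), hv⟩
    rw [List.mem_singleton] at hM
    subst hM
    exact ⟨W, Subgroup.subset_closure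
      (List.mem_cons_of_mem _ (List.mem_cons_of_mem _ (List.mem_cons_self ..))), hw⟩
  have hknown : ∀ M ∈ D.known, c.Mem K M := c.slp_sound h1 D.ops _ hbase hops
  have hchain := c.chain_of_levels h1 hknown D.levels [] hlev
  obtain ⟨hfull, htop⟩ := c.full_of_card hchain hcard
  have hinj := c.injective_of_full hchain hfull
  simp only [Data.smallOk, Bool.and_eq_true, eqL_iff, Bool.not_eq_true', List.all_eq_true,
    List.any_eq_true, decide_eq_true_eq, Bool.or_eq_true, Nat.beq_eq, List.mem_range] at hsmall
  obtain ⟨⟨⟨⟨⟨⟨⟨⟨hup, hune⟩, hvu⟩, hwv⟩, hvo⟩, hov⟩, hm⟩, hKc⟩, hwords⟩ := hsmall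
  have hUp : U ^ D.p = 1 := hinj (by rw [c.C_pow h1, hu, hup, h1])
  have hU1 : U ≠ 1 := fun h => by
    rw [h, h1] at hu
    rw [← hu, (eqL_iff _ _).2 rfl] at hune
    simp at hune
  have hord : orderOf U = D.p := orderOf_eq_prime hUp hU1
  have hVU : V * U = U ^ D.r * V := hinj (by rw [c.mul, c.mul, c.C_pow h1, hu, hv, hvu])
  have hWV : W * V = V ^ D.s * W := hinj (by rw [c.mul, c.mul, c.C_pow h1, hw, hv, hwv])
  have hVo : V ^ D.ov = 1 := hinj (by rw [c.C_pow h1, hv, hvo, h1])
  have hCU : ∀ y : G, y * U = U * y → ∃ m : ℕ, y = U ^ m := by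
    intro y hy
    obtain ⟨i, hi⟩ := c.search_spec h1 (full_slevs c D D.levels D.cu [] hlu hfull)
      (allOpts_slevs c h1 hknown D.levels D.cu [] hlev)
      (consOK_slevs c D h1 D.cu (by rw [hu]; exact hcu)) hu hu hsu y hy
    obtain ⟨j, -, hj⟩ := List.mem_map.1 hi
    rw [← hu, ← c.C_pow h1] at hj
    have e := hinj hj
    obtain ⟨m, hm'⟩ : ∃ m : ℕ, (U ^ i)⁻¹ = U ^ m := by
      obtain ⟨m, hm'⟩ := (isOfFinOrder_of_finite U).mem_powers_iff_mem_zpowers.2
        (Subgroup.inv_mem _ (Subgroup.npow_mem_zpowers U i))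
      exact ⟨m, hm'.symm⟩
    exact ⟨m + j, by rw [pow_add, e, ← hm', inv_mul_cancel_left]⟩
  have hpp : 0 < D.p := (Fact.out : D.p.Prime).pos
  have hmod : ∀ n : ℕ, U ^ n = U ^ (n % D.p) := fun n => by
    rw [← hord]; exact (pow_mod_orderOf U n).symm
  have hrep : ∀ n : ℕ, V * U ^ n = U ^ (D.r * n) * V := fun n => by
    induction n with
    | zero => simp
    | succ n ih =>
      rw [pow_succ, ← mul_assoc, ih, mul_assoc, hVU, ← mul_assoc, ← pow_add, Nat.mul_succ]
  have hN : ∀ x : G, x * U = U ^ D.r * x →
      ∃ i : ℕ, x = U ^ i * V ∧ ∃ a : ℕ, U ^ a * x * (U ^ a)⁻¹ = V := by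
    intro x hx
    obtain ⟨m, hm'⟩ := hCU (V⁻¹ * x) (by
      apply mul_left_cancel (a := V)
      rw [← mul_assoc, ← mul_assoc, ← mul_assoc, mul_inv_cancel, one_mul, hVU, hx,
        mul_assoc _ V, ← mul_assoc V V⁻¹, mul_inv_cancel, one_mul])
    have hxe : x = U ^ (D.r * m) * V := by rw [← hrep, ← hm', mul_inv_cancel_left]
    refine ⟨D.r * m, hxe, ?_⟩
    obtain ⟨a, -, ha⟩ := hm ((D.r * m) % D.p) (Nat.mod_lt _ hpp)
    refine ⟨a, ?_⟩
    rw [hxe, ← mul_assoc, ← pow_add, mul_inv_eq_iff_eq_mul, hrep, hmod, hmod (D.r * a)]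
    congr 2
    rw [← ha, Nat.add_mod_mod]
  let wG : ℕ × ℕ → G := fun ij => V ^ ij.1 * W ^ ij.2
  have hwC : ∀ ij, c.C (wG ij) = D.wCode ij := fun ij => by
    rw [c.mul, c.C_pow h1, c.C_pow h1, hv, hw]; rfl
  have hWset : ∀ x : G, x * V = V ^ D.s * x → x ∈ D.wIdx.map wG := by
    intro x hx
    obtain ⟨i, hi⟩ := c.search_spec h1 (full_slevs c D D.levels D.cv [] hlv hfull)
      (allOpts_slevs c h1 hknown D.levels D.cv [] hlev)
      (consOK_slevs c D h1 D.cv (by rw [hv, c.C_pow h1, hv]; exact hcv)) hv
      (by rw [c.C_pow h1, hv]) hsv x hx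
    obtain ⟨⟨i0, j0⟩, hmem, hj⟩ := List.mem_map.1 hi
    rw [← hwC] at hj
    have e : V ^ i0 * W ^ j0 = (V ^ D.s) ^ i * x := hinj hj
    obtain ⟨m, hm'⟩ := (isOfFinOrder_of_finite V).mem_powers_iff_mem_zpowers.2
        (Subgroup.inv_mem _ (Subgroup.pow_mem _ (Subgroup.npow_mem_zpowers V D.s) i))
    simp only at hm'
    have hj0 : j0 < D.ow := by
      simp only [Data.wIdx, List.mem_flatMap, List.mem_map, List.mem_range, Prod.mk.injEq] at hmem
      obtain ⟨a, -, b, hb, -, rfl⟩ := hmem
      exact hb
    refine List.mem_map.2 ⟨((m + i0) % D.ov, j0), ?_, ?_⟩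
    · simp only [Data.wIdx, List.mem_flatMap, List.mem_map, List.mem_range, Prod.mk.injEq]
      exact ⟨_, Nat.mod_lt _ hov, j0, hj0, rfl, rfl⟩
    · show V ^ ((m + i0) % D.ov) * W ^ j0 = x
      rw [← pow_eq_pow_mod _ hVo, pow_add, hm', mul_assoc, e, inv_mul_cancel_left]
  refine (CfsgLib.MathieuOut.card_out_le (p := D.p) (u := U) (v := V) (ws := [W]) (r := D.r)
    (s := D.s) hord hsq (by rw [← hK]; exact htop) hVU ?_ hN D.K ?_ (D.wIdx.map wG) hWset
    (D.valid.map fun t => (t.1, [wG t.2])) ?_).trans_eq (List.length_map _)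
  · intro w hw'
    rw [List.mem_singleton] at hw'
    subst hw'
    exact hWV
  · intro k hk
    have hk0 : k % D.p ≠ 0 := fun h => hk (Nat.dvd_of_mod_eq_zero h)
    rcases hKc (k % D.p) (Nat.mod_lt _ hpp) with h | ⟨l, -, k', hk', e⟩
    · exact absurd h hk0
    refine ⟨l, k', hk', ?_⟩
    have hl : ∀ (l n : ℕ), V ^ l * U ^ n = U ^ (n * D.r ^ l) * V ^ l := by
      intro l
      induction l with
      | zero => simp
      | succ l ihl =>
        intro n
        rw [pow_succ, mul_assoc, hrep, ← mul_assoc, ihl, mul_assoc, pow_succ, mul_comm D.r n,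
          mul_assoc n D.r, mul_comm D.r (D.r ^ l)]
    rw [hl, mul_inv_cancel_right, hmod, hmod k', ← e, Nat.mod_mul_mod]
  · intro k hk xs hlen hxs
    match xs, hlen with
    | [x], _ =>
      obtain ⟨ij, hij, rfl⟩ := List.mem_map.1 (hxs x List.mem_cons_self)
      simp only [Data.sepOk, List.all_eq_true, Bool.or_eq_true, List.elem_eq_mem,
        decide_eq_true_eq] at hsep
      rcases hsep k hk ij hij with h | h
      · exact Or.inl (List.mem_map.2 ⟨_, h, rfl⟩)
      refine Or.inr fun α hαu hαv hαw => ?_
      simp only [Data.separated, List.any_eq_true, Bool.not_eq_true'] at h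
      obtain ⟨l, hl, hne⟩ := h
      have h0 : evalG U V W l = 1 := hinj (by rw [c.C_evalG h1, hu, hv, hw, h1]; exact hwords l hl)
      have h3 := map_evalG α.toMonoidHom U V W l
      rw [h0, map_one] at h3
      simp only [MulEquiv.coe_toMonoidHom] at h3
      have hαW : α W = wG ij := by simpa using hαw
      rw [hαu, hαv, hαW] at h3
      have h4 := congrArg c.C h3
      rw [h1, c.C_evalG h1, c.C_pow h1, hu, hv, hwC] at h4
      rw [← h4, (eqL_iff _ _).2 rfl] at hne
      simp at hne

end CfsgLib.Rigid
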