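import Cfsg.Agent.Lib.Rigid.Cert

/-!
# The search for the elements that semi-commute two given elements
-/

set_option autoImplicit false

namespace CfsgLib.Rigid

/-- The representative of a point. -/
noncomputable def lkup (p : ℕ) (opts : List (ℕ × List ℕ)) : Option (List ℕ) :=
  List.rec none (fun o _ r => Bool.rec r (some o.2) (Nat.beq o.1 p)) opts

theorem lkup_mem {p : ℕ} : ∀ {opts : List (ℕ × List ℕ)} {M : List ℕ},
    lkup p opts = some M → (p, M) ∈ opts := by
  intro opts
  induction opts with
  | nil => intro M h; exact absurd h (by simp [lkup])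
  | cons o opts ih =>
    intro M h
    have e : lkup p (o :: opts) = Bool.rec (lkup p opts) (some o.2) (Nat.beq o.1 p) := rfl
    rw [e] at h
    cases hb : Nat.beq o.1 p with
    | false => rw [hb] at h; exact List.mem_cons_of_mem _ (ih h)
    | true =>
      rw [hb] at h
      rw [Nat.beq_eq] at hb
      rw [show M = o.2 from (Option.some.injEq _ _ ▸ h : o.2 = M).symm, ← hb]
      exact List.mem_cons_self

/-- Whether `y` is at most its first iterates. -/
noncomputable def isMin (B : List ℕ) (y : ℕ) : ℕ → ℕ → Bool
  | 0, _ => true
  | n + 1, z => Nat.ble y (img B z) && isMin B y n (img B z)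

/-- An equation that determines the image of a base point. -/
structure Cons where
  /-- The earlier base point. -/
  bj : ℕ
  /-- The power. -/
  k : ℕ
  /-- The code of the power of the first element. -/
  A : List ℕ
  /-- The code of the power of the second element. -/
  B : List ℕ

/-- A level of the search. -/
structure SLev where
  /-- The base point. -/
  b : ℕ
  /-- The orbit. -/
  pts : List ℕ
  /-- The representatives. -/
  opts : List (ℕ × List ℕ)
  /-- The equation at this level. -/
  cn : Option Cons
  /-- Whether to reduce by the second element. -/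
  red : Bool

/-- The test of an image. -/
noncomputable def pass (B q : List ℕ) (N b : ℕ) (cn : Option Cons) (red : Bool) (y : ℕ) : Bool :=
  (match cn with
    | none => true
    | some k => match Nat.beq k.bj b with
      | true => Nat.beq y (img k.B y)
      | false => Nat.beq y (img k.B (img q k.bj))) &&
  (match red with
    | false => true
    | true => isMin B y N y)

/-- The side conditions of a level. -/
noncomputable def side (B q : List ℕ) (fixed : List ℕ) (b : ℕ) (cn : Option Cons) (red : Bool) : Bool :=
  (match cn with
    | none => true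
    | some k => (Nat.beq k.bj b || fixed.elem k.bj) && Nat.beq (img k.A k.bj) b) &&
  (match red with
    | false => true
    | true => fixed.all fun x => Nat.beq (img B (img q x)) (img q x))

/-- The search. -/
noncomputable def srch (A B : List ℕ) (N : ℕ) (allowed : List (List ℕ)) :
    List SLev → List ℕ → List ℕ → Bool
  | [], _, q => !(eqL (mulF q A) (mulF B q)) || allowed.any (eqL q)
  | L :: Ls, fixed, q =>
    side B q fixed L.b L.cn L.red && L.pts.all fun p =>
      !(pass B q N L.b L.cn L.red (img q p)) ||
        match lkup p L.opts with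
        | none => false
        | some M => srch A B N allowed Ls (L.b :: fixed) (mulF q M)

namespace Cod

variable {G : Type*} [Group G] (c : Cod G)

/-- The equations of the search are powers of the two elements. -/
def ConsOK (a b : G) (Ls : List SLev) : Prop :=
  ∀ L ∈ Ls, ∀ k, L.cn = some k → c.C (a ^ k.k) = k.A ∧ c.C (b ^ k.k) = k.B

/-- The representatives of all levels are valid. -/
def AllOpts : List ℕ → List SLev → Prop
  | _, [] => True
  | l, L :: Ls => c.OptsOK l L.b L.opts ∧ c.Pt L.b ∧ AllOpts (L.b :: l) Ls

theorem srch_sound {a b : G} {N : ℕ} {allowed : List (List ℕ)} :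
    ∀ (Ls : List SLev) (fixed : List ℕ) (q : List ℕ), (∀ x ∈ fixed, c.Pt x) →
      c.Full fixed (Ls.map fun L => (L.b, L.pts)) → c.AllOpts fixed Ls → c.ConsOK a b Ls →
      srch (c.C a) (c.C b) N allowed Ls fixed q = true →
      ∀ y ∈ c.stab fixed, ∀ Q : G, c.C Q = q → Q * y * a = b * (Q * y) →
        ∃ i : ℕ, c.C (b ^ i * (Q * y)) ∈ allowed := by
  intro Ls
  induction Ls with
  | nil =>
    intro fixed q _ hfull _ _ hs y hy Q hQ hx
    rw [hfull y hy, mul_one] at hx ⊢
    refine ⟨0, ?_⟩
    simp only [srch, Bool.or_eq_true, Bool.not_eq_true', List.any_eq_true, eqL_iff] at hs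
    rcases hs with hs | ⟨M, hM, e⟩
    · exfalso
      have : eqL (mulF q (c.C a)) (mulF (c.C b) q) = true := by
        rw [eqL_iff, ← hQ, ← c.mul, ← c.mul, hx]
      rw [this] at hs
      simp at hs
    · rw [pow_zero, one_mul, hQ, e]
      exact hM
  | cons L Ls ih =>
    intro fixed q hpt hfull hopts hcons hs y hy Q hQ hx
    simp only [srch, Bool.and_eq_true, List.all_eq_true] at hs
    obtain ⟨hside, hs⟩ := hs
    simp only [side, Bool.and_eq_true] at hside
    obtain ⟨hsc, hsr⟩ := hside
    obtain ⟨hfl, hfull'⟩ := hfull
    obtain ⟨hol, hPb, hopts'⟩ := hopts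
    -- replace the element when reducing
    obtain ⟨i, y', hy', hx', hmin⟩ : ∃ i : ℕ, ∃ y' ∈ c.stab fixed, b ^ i * (Q * y) = Q * y' ∧
        (L.red = true → ∀ j : ℕ, img (c.C Q) (img (c.C y') L.b) ≤
          img (c.C (b ^ j)) (img (c.C Q) (img (c.C y') L.b))) := by
      cases hr : L.red with
      | false => exact ⟨0, y, hy, by simp, by simp⟩
      | true =>
        rw [hr] at hsr
        simp only [List.all_eq_true, Nat.beq_eq] at hsr
        classical
        let f : ℕ → ℕ := fun i => img (c.C (b ^ i * (Q * y))) L.b
        have hex : ∃ v, ∃ i, f i = v := ⟨_, 0, rfl⟩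
        obtain ⟨i, hi⟩ := Nat.find_spec hex
        have hmin : ∀ j, f i ≤ f j := fun j => hi ▸ Nat.find_min' hex ⟨j, rfl⟩
        have hpow : ∀ (k : ℕ), ∀ x ∈ fixed, img (c.C (b ^ k)) (img q x) = img q x := by
          intro k
          induction k with
          | zero =>
            intro x hx
            rw [pow_zero, c.one_img _ (hQ ▸ c.img_pt Q x (hpt x hx))]
          | succ k ihk =>
            intro x hx
            rw [pow_succ, c.img_mul, hsr x hx, ihk x hx]
        refine ⟨i, Q⁻¹ * (b ^ i * (Q * y)), ?_, (mul_inv_cancel_left _ _).symm, fun _ j => ?_⟩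
        · intro x hxl hxp
          rw [c.img_mul, c.img_mul, c.img_mul, hy x hxl hxp, hQ, hpow i x hxl, ← hQ,
            c.img_inv_img Q hxp]
        · rw [← c.img_mul, ← c.img_mul, mul_inv_cancel_left]
          refine (hmin (j + i)).trans_eq ?_
          simp only [f, pow_add, c.img_mul]
    have hsemi : Q * y' * a = b * (Q * y') := by
      rw [← hx', mul_assoc, hx, ← mul_assoc, ← pow_succ, pow_succ', mul_assoc]
    set p := img (c.C y') L.b with hp
    have hmem : p ∈ L.pts := hfl y' hy'
    have h := hs p hmem
    have hpass : pass (c.C b) q N L.b L.cn L.red (img q p) = true := by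
      simp only [pass, Bool.and_eq_true]
      constructor
      · cases hc : L.cn with
        | none => rfl
        | some k =>
          rw [hc] at hsc
          simp only [Bool.and_eq_true, Bool.or_eq_true, List.elem_eq_mem, decide_eq_true_eq, Nat.beq_eq] at hsc
          obtain ⟨hkA, hkB⟩ := hcons L List.mem_cons_self k hc
          have hs' : Q * y' * a ^ k.k = b ^ k.k * (Q * y') :=
            (SemiconjBy.pow_right (a := Q * y') (x := a) (y := b) hsemi k.k)
          show (match Nat.beq k.bj L.b with
            | true => Nat.beq (img q p) (img k.B (img q p))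
            | false => Nat.beq (img q p) (img k.B (img q k.bj))) = true
          cases hb : Nat.beq k.bj L.b with
          | true =>
            rw [Nat.beq_eq] at hb
            rw [Nat.beq_eq, ← hQ, hp, ← c.img_mul]
            rw [hb] at hsc
            conv_lhs => rw [← hsc.2, ← hkA, ← c.img_mul, hs', c.img_mul, hkB]
          | false =>
            have hmem' : k.bj ∈ fixed := hsc.1.resolve_left fun e => by simp [e] at hb
            rw [Nat.beq_eq, ← hQ, hp, ← c.img_mul]
            conv_lhs => rw [← hsc.2, ← hkA, ← c.img_mul, hs', c.img_mul, hkB, c.img_mul]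
            rw [hy' k.bj hmem' (hpt _ hmem')]
      · cases hr : L.red with
        | false => rfl
        | true =>
          have hm := hmin hr
          rw [← hQ]
          have : ∀ n z, (∃ j, z = img (c.C (b ^ j)) (img (c.C Q) p)) →
              isMin (c.C b) (img (c.C Q) p) n z = true := by
            intro n
            induction n with
            | zero => intros; rfl
            | succ n ihn =>
              rintro z ⟨j, rfl⟩
              have e : img (c.C b) (img (c.C (b ^ j)) (img (c.C Q) p)) =
                  img (c.C (b ^ (j + 1))) (img (c.C Q) p) := by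
                rw [pow_succ', c.img_mul]
              simp only [isMin, Bool.and_eq_true, Nat.ble_eq]
              exact ⟨e ▸ hm (j + 1), ihn _ ⟨j + 1, e⟩⟩
          exact this N _ ⟨0, by rw [pow_zero, c.one_img _ (c.img_pt Q p (c.img_pt y' L.b hPb))]⟩
    rw [hpass] at h
    simp only [Bool.not_true, Bool.false_or] at h
    split at h
    · exact absurd h (by simp)
    rename_i M hM
    obtain ⟨t, ht, et, ep⟩ := hol _ (lkup_mem hM)
    dsimp only at et ep
    have hz : t⁻¹ * y' ∈ c.stab (L.b :: fixed) := (c.mem_stab_cons hPb).2
      ⟨(c.stab fixed).mul_mem ((c.stab fixed).inv_mem ht) hy', by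
        rw [c.img_mul, ← hp]
        conv_lhs => rw [← ep, ← et]
        exact c.img_inv_img t hPb⟩
    obtain ⟨j, hj⟩ := ih (L.b :: fixed) (mulF q M)
      (fun x hx => by
        rcases List.mem_cons.1 hx with rfl | hx
        · exact hPb
        · exact hpt x hx)
      hfull' hopts' (fun L' hL' => hcons L' (List.mem_cons_of_mem _ hL')) h (t⁻¹ * y') hz (Q * t)
      (by rw [c.mul, hQ, et]) (by rw [show Q * t * (t⁻¹ * y') = Q * y' by group]; exact hsemi)
    refine ⟨j + i, ?_⟩
    rw [show Q * t * (t⁻¹ * y') = Q * y' by group, ← hx', ← mul_assoc, ← pow_add] at hj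
    exact hj

theorem search_spec {a b : G} {N : ℕ} {allowed : List (List ℕ)} {Ls : List SLev} {one : List ℕ}
    (h1 : c.C 1 = one) (hfull : c.Full [] (Ls.map fun L => (L.b, L.pts))) (hopts : c.AllOpts [] Ls)
    (hcons : c.ConsOK a b Ls) {A B : List ℕ} (hA : c.C a = A) (hB : c.C b = B)
    (hs : srch A B N allowed Ls [] one = true) (x : G) (hx : x * a = b * x) :
    ∃ i : ℕ, c.C (b ^ i * x) ∈ allowed := by
  subst hA hB
  obtain ⟨i, hi⟩ := c.srch_sound Ls [] one (by simp) hfull hopts hcons hs x
    (by rw [c.stab_nil]; trivial) 1 h1 (by rw [one_mul]; exact hx)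
  rw [one_mul] at hi
  exact ⟨i, hi⟩

end Cod

end CfsgLib.Rigid
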